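import Groth.Agent.Cons62.Spread
import Mathlib.AlgebraicGeometry.Fiber

/-! A property of all points of a fibre, from the locus of a pointwise property. -/

set_option autoImplicit false
universe u

open CategoryTheory AlgebraicGeometry Topology

namespace Groth.Agent.FBase64

theorem isLocallyConstructible_forall_fiber {X S : Scheme.{u}} (f : X ⟶ S)
    [LocallyOfFinitePresentation f] [QuasiCompact f] [QuasiSeparated f]
    (Q : ∀ s : S, ↥(f.fiber s) → Prop) (h : IsLocallyConstructible {x : X | Q (f x) (f.asFiber x)}) :
    IsLocallyConstructible {s : S | ∀ z : ↥(f.fiber s), Q s z} := by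
  have heq : {s : S | ∀ z : ↥(f.fiber s), Q s z} =
      (f.base '' {x : X | Q (f x) (f.asFiber x)}ᶜ)ᶜ := by
    ext s
    constructor
    · rintro hz ⟨x, hx, rfl⟩
      exact hx (hz _)
    · intro hs z
      by_contra hc
      have hz : f (f.fiberι s z) = s := by
        have : f.fiberι s z ∈ Set.range (f.fiberι s) := ⟨z, rfl⟩
        rw [Scheme.Hom.range_fiberι] at this
        exact this
      refine hs ⟨f.fiberι s z, fun hQ => hc ?_, hz⟩
      change Q (f (f.fiberι s z)) (f.asFiber (f.fiberι s z)) at hQ
      generalize hx : f.fiberι s z = x at hz hQ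
      subst hz
      have : z = f.asFiber x :=
        (f.fiberι (f x)).isEmbedding.injective (hx.trans (f.fiberι_asFiber x).symm)
      rw [this]
      exact hQ
  rw [heq]
  exact Cons62.isLocallyConstructible_compl
    (f.isLocallyConstructible_image (Cons62.isLocallyConstructible_compl h))

end Groth.Agent.FBase64
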