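import Groth.Agent.Cons62.Spread
import Groth.Agent.LimTop61.RelAmpleStage

/-! Conditions on fibres which descend to a stage of a limit are ind-constructible. -/

set_option autoImplicit false
universe u

open CategoryTheory CategoryTheory.Limits AlgebraicGeometry TopologicalSpace Topology

namespace Groth.Agent.FBase64.FibreStage

variable {S : Scheme.{u}}

/-- A condition on `S`-schemes is stable under base change. -/
def Stable (Q : ∀ {Z : Scheme.{u}}, (Z ⟶ S) → Prop) : Prop :=
  ∀ {Z Z' : Scheme.{u}} (v : Z' ⟶ Z) (t : Z ⟶ S), Q t → Q (v ≫ t)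

/-- A condition on `S`-schemes descends to the stages of a cofiltered limit with affine transition
maps and a quasi-compact stage. -/
def Descends (Q : ∀ {Z : Scheme.{u}}, (Z ⟶ S) → Prop) : Prop :=
  ∀ {I : Type u} [SmallCategory I] [IsCofiltered I] (D : I ⥤ Scheme.{u}) (c : Cone D) (_ : IsLimit c)
    [∀ (i j : I) (φ : i ⟶ j), IsAffineHom (D.map φ)] (i₀ : I) [CompactSpace (D.obj i₀)]
    [QuasiSeparatedSpace (D.obj i₀)] (a : D.obj i₀ ⟶ S),
    Q (c.π.app i₀ ≫ a) → ∃ (j : I) (φ : j ⟶ i₀), Q (D.map φ ≫ a)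

/-- A descending condition which holds at a point of an affine open holds on a constructible
subset through it. -/
theorem exists_nhd (Q : ∀ {Z : Scheme.{u}}, (Z ⟶ S) → Prop) (hs' : Stable Q) (hd : Descends Q)
    {A : CommRingCat.{u}} (u : Spec A ⟶ S) (s : Spec A) (hs : Q ((Spec A).fromSpecResidueField s ≫ u)) :
    ∃ C : Set (Spec A), IsLocallyConstructible C ∧ s ∈ C ∧
      ∀ t ∈ C, Q ((Spec A).fromSpecResidueField t ≫ u) := by
  classical
  set p := s.asIdeal
  have : p.IsPrime := s.isPrime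
  let b : (Cons62.ResLimit.Idx p)ᵒᵖ := Opposite.op (Cons62.ResLimit.base p)
  have hgood : Q ((Cons62.ResLimit.c p).π.app b ≫ Cons62.ResLimit.toBase p b ≫ u) := by
    rw [← Category.assoc, Cons62.ResLimit.π_toBase]
    have := hs' (Spec.map (Scheme.Spec.residueFieldIso A s).hom) _ hs
    rw [← Scheme.Spec.map_residueFieldIso_inv_eq_fromSpecResidueField, ← Category.assoc,
      ← Category.assoc, ← Spec.map_comp, Iso.inv_hom_id, Spec.map_id, Category.id_comp] at this
    exact this
  have : CompactSpace ((Cons62.ResLimit.D p).obj b) := inferInstanceAs (CompactSpace (Spec (_ : CommRingCat)))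
  have : QuasiSeparatedSpace ((Cons62.ResLimit.D p).obj b) :=
    inferInstanceAs (QuasiSeparatedSpace (Spec (_ : CommRingCat)))
  obtain ⟨j, φ, hj⟩ := hd (Cons62.ResLimit.D p) (Cons62.ResLimit.c p) (Cons62.ResLimit.isLimit p) b _ hgood
  rw [← Category.assoc, Cons62.ResLimit.map_toBase] at hj
  let i := j.unop
  refine ⟨PrimeSpectrum.zeroLocus (i.J : Set A) ∩ (PrimeSpectrum.basicOpen (∏ a ∈ i.F, a) : Set (PrimeSpectrum A)), ?_, ?_, ?_⟩
  · refine IsConstructible.isLocallyConstructible (IsConstructible.inter ?_ ?_)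
    · exact isConstructible_compl.mp
        ((PrimeSpectrum.isRetrocompact_zeroLocus_compl i.J.finite_toSet).isConstructible
          (PrimeSpectrum.isClosed_zeroLocus _).isOpen_compl)
    · exact (PrimeSpectrum.isCompact_basicOpen _).isConstructible (PrimeSpectrum.basicOpen _).2
  · refine ⟨fun a ha => i.hJ a ha, fun hmem => ?_⟩
    obtain ⟨a, ha, hap⟩ := (Ideal.IsPrime.prod_mem_iff (p := p)).mp hmem
    exact i.hF a ha hap
  · rintro t ⟨htJ, htF⟩
    have := t.isPrime
    let ψ : A →+* (Spec A).residueField t :=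
      (Scheme.Spec.residueFieldIso A t).inv.hom.comp (algebraMap A t.asIdeal.ResidueField)
    have hψ : Spec.map (CommRingCat.ofHom ψ) = (Spec A).fromSpecResidueField t := by
      rw [← Scheme.Spec.map_residueFieldIso_inv_eq_fromSpecResidueField, ← Spec.map_comp]
      exact congrArg Spec.map (CommRingCat.hom_ext rfl)
    obtain ⟨l, hl⟩ := Cons62.ResLimit.exists_lift (i := i) ψ (fun a ha => by
        show IsUnit ((Scheme.Spec.residueFieldIso A t).inv.hom (algebraMap A t.asIdeal.ResidueField a))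
        exact (isUnit_iff_ne_zero.mpr (mt Ideal.algebraMap_residueField_eq_zero.mp fun hat =>
          htF (t.asIdeal.mem_of_dvd (Finset.dvd_prod_of_mem (fun a => a) ha) hat))).map _)
      (fun a ha => by
        show (Scheme.Spec.residueFieldIso A t).inv.hom (algebraMap A _ a) = 0
        rw [Ideal.algebraMap_residueField_eq_zero.mpr (htJ ha)]
        exact map_zero _)
    have e : (Spec A).fromSpecResidueField t = Spec.map (CommRingCat.ofHom l) ≫ Cons62.ResLimit.toBase p j := by
      rw [← hψ, ← hl]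
      show _ = Spec.map (CommRingCat.ofHom l) ≫ Spec.map (CommRingCat.ofHom (algebraMap A (Cons62.ResLimit.R i)))
      rw [← Spec.map_comp]
      rfl
    have h1 := hs' (Spec.map (CommRingCat.ofHom l)) _ hj
    exact (congrArg Q ((congrArg (· ≫ u) e).trans (Category.assoc _ _ _))).mpr h1

/-- The set of points of `S` over whose residue fields a descending condition holds is
ind-constructible. -/
theorem isIndConstructible (Q : ∀ {Z : Scheme.{u}}, (Z ⟶ S) → Prop) (hs' : Stable Q) (hd : Descends Q) :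
    ProCons.IsIndConstructible {s : S | Q (S.fromSpecResidueField s)} := by
  intro x
  obtain ⟨_, ⟨V₀, hV₀, rfl⟩, hx, -⟩ :=
    S.isBasis_affineOpens.exists_subset_of_mem_open (Set.mem_univ x) isOpen_univ
  let V : S.Opens := V₀
  have hV : IsAffineOpen V := hV₀
  have hiff : ∀ y : Spec Γ(S, V), Q ((Spec Γ(S, V)).fromSpecResidueField y ≫ hV.fromSpec) ↔
      Q (S.fromSpecResidueField (hV.fromSpec y)) := by
    intro y
    rw [← Scheme.Hom.SpecMap_residueFieldMap_fromSpecResidueField]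
    refine ⟨fun h => ?_, fun h => hs' _ _ h⟩
    have := hs' (inv (Spec.map (hV.fromSpec.residueFieldMap y))) _ h
    rwa [IsIso.inv_hom_id_assoc] at this
  refine ⟨V, V.2, hx, {T | IsLocallyConstructible T ∧ T ⊆ Subtype.val ⁻¹' {s : S | Q (S.fromSpecResidueField s)}},
    fun T hT => hT.1, subset_antisymm (fun y hy => ?_) (Set.sUnion_subset fun T hT => hT.2)⟩
  have key : ∀ z : (V : Scheme.{u}), (hV.fromSpec (hV.isoSpec.hom z) : S) = V.ι z := fun z =>
    (Scheme.Hom.comp_apply _ _ z).symm.trans (congrArg (fun m : (V : Scheme.{u}) ⟶ S => m z) hV.isoSpec_hom_fromSpec)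
  obtain ⟨C, hC, hyC, hCE⟩ := exists_nhd Q hs' hd hV.fromSpec (hV.isoSpec.hom y) ((hiff _).mpr (by
    rw [key y]; exact hy))
  refine ⟨hV.isoSpec.hom ⁻¹' C,
    ⟨hC.preimage_of_isOpenEmbedding hV.isoSpec.hom.isOpenEmbedding, fun z hz => ?_⟩, hyC⟩
  have := (hiff _).mp (hCE _ hz)
  rw [key z] at this
  exact this

variable {X Y : Scheme.{u}} (f : X ⟶ Y) (g : Y ⟶ S)

/-- The morphism induced by `f` on the base changes along `t`. -/
noncomputable abbrev fmap {Z : Scheme.{u}} (t : Z ⟶ S) : pullback (f ≫ g) t ⟶ pullback g t :=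
  pullback.lift (pullback.fst (f ≫ g) t ≫ f) (pullback.snd (f ≫ g) t)
    ((Category.assoc _ _ _).trans pullback.condition)

theorem isPullback_fmap {Z : Scheme.{u}} (t : Z ⟶ S) :
    IsPullback (pullback.fst (f ≫ g) t) (fmap f g t) f (pullback.fst g t) := by
  refine IsPullback.of_bot ?_ (pullback.lift_fst _ _ _).symm (IsPullback.of_hasPullback g t)
  have : fmap f g t ≫ pullback.snd g t = pullback.snd (f ≫ g) t := pullback.lift_snd _ _ _
  rw [this]
  exact IsPullback.of_hasPullback _ _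

/-- Base changes along a composite, expressed by squares over the two base changes. -/
theorem exists_isPullback_of_comp {Z Z' Xj Yj Xk Yk : Scheme.{u}} (v : Z' ⟶ Z) {t : Z ⟶ S}
    {pX : Xj ⟶ X} {pY : Yj ⟶ Y} {fj : Xj ⟶ Yj} {gj : Yj ⟶ Z} (hY : IsPullback pY gj g t)
    (hX : IsPullback pX fj f pY)
    {qX : Xk ⟶ X} {qY : Yk ⟶ Y} {fk : Xk ⟶ Yk} {gk : Yk ⟶ Z'} (hY' : IsPullback qY gk g (v ≫ t))
    (hX' : IsPullback qX fk f qY) :
    ∃ (a : Xk ⟶ Xj) (b : Yk ⟶ Yj), IsPullback a fk fj b ∧ IsPullback b gk gj v ∧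
      a ≫ pX = qX ∧ b ≫ pY = qY := by
  obtain ⟨b, hb1, hb2⟩ : ∃ b : Yk ⟶ Yj, b ≫ pY = qY ∧ b ≫ gj = gk ≫ v :=
    ⟨hY.lift qY (gk ≫ v) (by rw [hY'.w, Category.assoc]), hY.lift_fst _ _ _, hY.lift_snd _ _ _⟩
  obtain ⟨a, ha1, ha2⟩ : ∃ a : Xk ⟶ Xj, a ≫ pX = qX ∧ a ≫ fj = fk ≫ b :=
    ⟨hX.lift qX (fk ≫ b) (by rw [hX'.w, Category.assoc, hb1]), hX.lift_fst _ _ _, hX.lift_snd _ _ _⟩
  refine ⟨a, b, ?_, ?_, ha1, hb1⟩
  · refine IsPullback.of_right ?_ ha2 hX
    rw [ha1, hb1]
    exact hX'
  · refine IsPullback.of_right ?_ hb2 hY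
    rw [hb1]
    exact hY'

/-- Relative ampleness of the pullback of `L` to the base change along `t`. -/
def AmpleOver (L : X.Modules) {Z : Scheme.{u}} (t : Z ⟶ S) : Prop :=
  RelAmple.IsRelAmple (fmap f g t) ((Scheme.Modules.pullback (pullback.fst (f ≫ g) t)).obj L)

variable (L : X.Modules)

theorem ampleOver_comp_of_squares {Z Z' Xj Yj : Scheme.{u}} (v : Z' ⟶ Z) {t : Z ⟶ S}
    {pX : Xj ⟶ X} {pY : Yj ⟶ Y} {fj : Xj ⟶ Yj} {gj : Yj ⟶ Z} (hY : IsPullback pY gj g t)
    (hX : IsPullback pX fj f pY)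
    (h : RelAmple.IsRelAmple fj ((Scheme.Modules.pullback pX).obj L)) : AmpleOver f g L (v ≫ t) := by
  obtain ⟨a, b, ha, -, hap, -⟩ := exists_isPullback_of_comp f g v hY hX
    (IsPullback.of_hasPullback g (v ≫ t)) (isPullback_fmap f g (v ≫ t))
  exact Amp73.isRelAmple_of_iso ((LimTop61.pullbackCompIso pX a hap).app L)
    (LimTop61.isRelAmple_of_isPullback ha h)

theorem stable_ampleOver : Stable (S := S) (fun {Z} t => AmpleOver f g L (Z := Z) t) :=
  fun v t h => ampleOver_comp_of_squares f g L v (IsPullback.of_hasPullback g t) (isPullback_fmap f g t) h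

theorem descends_ampleOver [LocallyOfFinitePresentation g] [QuasiCompact g] [QuasiSeparated g]
    [QuasiCompact (f ≫ g)] [QuasiSeparated (f ≫ g)] (hL : PicF.IsInvertible L) :
    Descends (S := S) (fun {Z} t => AmpleOver f g L (Z := Z) t) := by
  intro I _ _ D c hc _ i₀ _ _ a h
  have : QuasiCompact (fmap f g a ≫ pullback.snd g a) := by rw [pullback.lift_snd]; infer_instance
  have : QuasiSeparated (fmap f g a ≫ pullback.snd g a) := by rw [pullback.lift_snd]; infer_instance
  have : QuasiCompact (fmap f g a) := QuasiCompact.of_comp (fmap f g a) (pullback.snd g a)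
  have : QuasiSeparated (fmap f g a) := QuasiSeparated.of_comp (fmap f g a) (pullback.snd g a)
  have : CompactSpace ↥(pullback g a) := QuasiCompact.compactSpace_of_compactSpace (pullback.snd g a)
  obtain ⟨u, v, hu, hv, hua, hva⟩ := exists_isPullback_of_comp f g (c.π.app i₀)
    (IsPullback.of_hasPullback g a) (isPullback_fmap f g a)
    (IsPullback.of_hasPullback g (c.π.app i₀ ≫ a)) (isPullback_fmap f g (c.π.app i₀ ≫ a))
  have hL' := Amp73.isInvertible_pullback (pullback.fst (f ≫ g) a) hL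
  have h' := Amp73.isRelAmple_of_iso ((LimTop61.pullbackCompIso (pullback.fst (f ≫ g) a) u hua).app L).symm h
  obtain ⟨j, φ, Xj, Yj, fj, gj, pY, pX, hY, hX, hj⟩ := (LimTop61.isRelAmple_iff_stage D c hc i₀
    (fmap f g a) (pullback.snd g a) _ hL' _ _ v u hv hu).mp h'
  refine ⟨j, φ, ?_⟩
  have := ampleOver_comp_of_squares f g L (𝟙 _) (t := D.map φ ≫ a)
    (hY.paste_horiz (IsPullback.of_hasPullback g a)) (hX.paste_horiz (isPullback_fmap f g a))
    (Amp73.isRelAmple_of_iso ((LimTop61.pullbackCompIso _ pX rfl).app L) hj)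
  rwa [Category.id_comp] at this

end Groth.Agent.FBase64.FibreStage
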