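import Groth.Agent.FBase64.AssFibre.DimCons
import Groth.Agent.E4O.BaseChangeDim
import Groth.Agent.FBase64.AssMono
import Groth.Agent.QC70.PushClosed
import Groth.Agent.ConsPts12.Range
import Mathlib.RingTheory.Spectrum.Prime.ConstructibleSet

/-! The dimensions of the components of the fibres of a constructible set. -/

set_option autoImplicit false
set_option linter.style.haveILetI false
set_option backward.isDefEq.respectTransparency false
universe u

open CategoryTheory CategoryTheory.Limits AlgebraicGeometry Topology TopologicalSpace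
open Groth.Agent.FBase64.AssSheaf Groth.Agent.FBase64.AssFibre Groth.Agent.FBase64.AssTensor

namespace Groth.Agent.FBase64.CompDims

/-- The points of a set without generizations in it. -/
def maxPts {Y : Type u} [TopologicalSpace Y] (A : Set Y) : Set Y := {z | z ∈ A ∧ ∀ w ∈ A, w ⤳ z → w = z}

/-- The dimensions of the closures of the maximal points of a set. -/
def maxDims {Y : Type u} [TopologicalSpace Y] (A : Set Y) : Set (WithBot ℕ∞) :=
  (fun z : Y => topologicalKrullDim ↥(closure ({z} : Set Y))) '' maxPts A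

/-- A closed subset has finitely many points covering it by their closures. -/
theorem exists_finite_gen {Y : Scheme.{u}} [IsNoetherian Y] {D : Set Y} (hD : IsClosed D) :
    ∃ G : Set Y, G.Finite ∧ G ⊆ D ∧ ∀ y ∈ D, ∃ δ ∈ G, δ ⤳ y := by
  haveI : QuasiSober D := hD.isClosedEmbedding_subtypeVal.quasiSober
  have hfin : (irreducibleComponents D).Finite := NoetherianSpace.finite_irreducibleComponents
  haveI := hfin.to_subtype
  choose g hg using fun T : irreducibleComponents D =>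
    QuasiSober.sober T.2.1 (isClosed_of_mem_irreducibleComponents T.1 T.2)
  refine ⟨Set.range fun T => (g T).1, Set.finite_range _, fun y ⟨T, hT⟩ => hT ▸ (g T).2, fun y hy => ?_⟩
  let T : irreducibleComponents D :=
    ⟨irreducibleComponent ⟨y, hy⟩, irreducibleComponent_mem_irreducibleComponents _⟩
  exact ⟨_, ⟨T, rfl⟩, (subtype_specializes_iff _ _).1 ((hg T).specializes mem_irreducibleComponent)⟩

section Generic

variable {Y S : Scheme.{u}} [IsIntegral S] [IsNoetherian S] (g : Y ⟶ S) [LocallyOfFiniteType g] [QuasiCompact g]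

/-- Maximal points over a point of the generic fibre, near the generic point. -/
theorem exists_nhd_minOver (ξ : Y) (hξ : g ξ = genericPoint S) :
    ∃ U : S.Opens, genericPoint S ∈ U ∧ ∀ s ∈ U, (∃ y, MinOver g s ξ y) ∧
      ∀ y, MinOver g s ξ y → E4O.fdeg g y = E4O.fdeg g ξ := by
  haveI := LocallyOfFiniteType.isLocallyNoetherian g
  let F := closureMod ξ
  have hF : Coh.IsCoh F := QC70.isCoh_pushforward (closurePt ξ).subschemeι _ (RedField.isCoh_structure _)
  have hmem : ξ ∈ genAss g F := ⟨mem_ass_closureMod ξ, hξ⟩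
  obtain ⟨U, hU, -, h⟩ := exists_nhd_ass g F hF
  obtain ⟨U', hU', h'⟩ := exists_nhd_fdeg g F hF
  exact ⟨U ⊓ U', ⟨hU, hU'⟩, fun s hs => ⟨(h s hs.1).2.1 ξ hmem, fun y hy => h' s hs.2 ξ hmem y hy⟩⟩

/-- A closed set not containing a point of the generic fibre avoids the maximal points over it. -/
theorem exists_nhd_avoid (ξ : Y) (hξ : g ξ = genericPoint S) {D : Set Y} (hD : IsClosed D) (hξD : ξ ∉ D) :
    ∃ U : S.Opens, genericPoint S ∈ U ∧ ∀ s ∈ U, ∀ y ∈ D, ¬ MinOver g s ξ y := by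
  classical
  haveI := LocallyOfFiniteType.isLocallyNoetherian g
  haveI : CompactSpace Y := QuasiCompact.compactSpace_of_compactSpace g
  haveI : IsNoetherian Y := { }
  obtain ⟨G, hG, hGD, hcov⟩ := exists_finite_gen (hD.inter (isClosed_closure (s := {ξ})))
  haveI := hG.to_subtype
  obtain ⟨Uξ, hUξ, hξ'⟩ := exists_nhd_minOver g ξ hξ
  have key : ∀ δ : G, ∃ U : S.Opens, genericPoint S ∈ U ∧ ∀ s ∈ U, s ∈ Uξ → ∀ y, δ.1 ⤳ y → ¬ MinOver g s ξ y := by
    intro δ
    obtain ⟨hδD, hδξ⟩ := hGD δ.2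
    have hsp : ξ ⤳ δ.1 := specializes_iff_mem_closure.mpr hδξ
    by_cases hgen : g δ.1 = genericPoint S
    · have hlt := E4O.fdeg_lt (f := g) hsp (hξ.trans hgen.symm) (fun h => hξD (h ▸ hδD))
      obtain ⟨U, hU, h⟩ := exists_nhd_minOver g δ.1 hgen
      refine ⟨U, hU, fun s hs hsξ y hδy hy => ?_⟩
      have h1 := (h s hs).2 y ⟨hy.1, hδy, fun z hz hδz hzy => hy.2.2 z hz (hsp.trans hδz) hzy⟩
      rw [(hξ' s hsξ).2 y hy] at h1
      omega
    · refine ⟨⟨(closure {g δ.1})ᶜ, isClosed_closure.isOpen_compl⟩, fun h => hgen ?_, fun s hs _ y hδy hy => hs ?_⟩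
      · exact ((specializes_iff_mem_closure.mpr h).antisymm (genericPoint_specializes _)).eq
      · exact hy.1 ▸ specializes_iff_mem_closure.mp (hδy.map g.continuous)
  choose U hU h using key
  refine ⟨⟨(⋂ δ : G, (U δ : Set S)) ∩ Uξ, (isOpen_iInter_of_finite fun δ => (U δ).2).inter Uξ.2⟩,
    ⟨Set.mem_iInter.mpr hU, hUξ⟩, fun s hs y hy hmy => ?_⟩
  obtain ⟨δ, hδ, hδy⟩ := hcov y ⟨hy, specializes_iff_mem_closure.mp hmy.2.1⟩
  exact h ⟨δ, hδ⟩ s (Set.mem_iInter.mp hs.1 ⟨δ, hδ⟩) hs.2 y hδy hmy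

/-- Near the generic point the maximal points of a constructible set lie over those of the generic fibre. -/
theorem exists_nhd_maxDims {A : Set Y} (hA : IsLocallyConstructible A) :
    ∃ (U : S.Opens) (Φ : Set ℕ), genericPoint S ∈ U ∧ ∀ s ∈ U,
      E4O.fdeg g '' maxPts (A ∩ g ⁻¹' {s}) = Φ := by
  classical
  haveI := LocallyOfFiniteType.isLocallyNoetherian g
  haveI : CompactSpace Y := QuasiCompact.compactSpace_of_compactSpace g
  haveI : IsNoetherian Y := { }
  obtain ⟨G₁, hG₁, hG₁A, hcov⟩ := exists_finite_gen (isClosed_closure (s := A))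
  haveI := hG₁.to_subtype
  have hind := (ConsPts12.isLocallyConstructible_iff.mp hA).1
  have hpro := (ConsPts12.isLocallyConstructible_iff.mp hA).2
  let M : Set Y := {ξ | ξ ∈ G₁ ∧ ∀ δ ∈ G₁, δ ⤳ ξ → δ = ξ}
  have hM : ∀ y ∈ closure A, ∃ ξ ∈ M, ξ ⤳ y := by
    intro y hy
    obtain ⟨δ, hδ, hδy⟩ := hcov y hy
    haveI : Fintype G₁ := hG₁.fintype
    let T := (Finset.univ : Finset G₁).filter fun ε => ε.1 ⤳ δ
    obtain ⟨ε, hε, hmin⟩ := Finset.exists_min_image T
      (fun ε => (Finset.univ.filter fun η : G₁ => η.1 ⤳ ε.1).card) ⟨⟨δ, hδ⟩, by simp [T, specializes_rfl]⟩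
    simp only [T, Finset.mem_filter, Finset.mem_univ, true_and] at hε hmin
    refine ⟨ε.1, ⟨ε.2, fun η hη hηε => ?_⟩, hε.trans hδy⟩
    by_contra hne
    have hle := hmin ⟨η, hη⟩ (hηε.trans hε)
    have hss : (Finset.univ.filter fun z : G₁ => z.1 ⤳ η) ⊂ Finset.univ.filter fun z : G₁ => z.1 ⤳ ε.1 := by
      refine Finset.ssubset_iff_of_subset (fun z hz => ?_) |>.mpr ⟨ε, by simp [specializes_rfl], ?_⟩
      · simp only [Finset.mem_filter, Finset.mem_univ, true_and] at hz ⊢
        exact hz.trans hηε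
      · simp only [Finset.mem_filter, Finset.mem_univ, true_and]
        exact fun h => hne (hηε.antisymm h).eq
    exact absurd (Finset.card_lt_card hss) (not_lt.mpr hle)
  -- the generators of the closure belong to the set
  have hMA : ∀ ξ ∈ M, ξ ∈ A ∧ ξ ∈ interior (A ∪ (closure {ξ})ᶜ) := by
    intro ξ hξ
    have hgen : ∀ w, w ⤳ ξ → w ∈ closure A → w = ξ := fun w hw hwA => by
      obtain ⟨δ, hδ, hδw⟩ := hcov w hwA
      obtain rfl := hξ.2 δ hδ (hδw.trans hw)
      exact (hw.antisymm hδw).eq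
    have hξA : ξ ∈ A := by
      by_contra hξA
      have hclA : ∀ x ∈ closure A, ∃ a ∈ A, a ⤳ x := fun x hx => by
        by_contra hno
        push Not at hno
        have hcompl := (ConsPts12.isLocallyConstructible_iff.mp (Cons62.isLocallyConstructible_compl hA)).1
        have : x ∈ interior Aᶜ := (ConsPts12.mem_interior_iff hcompl x).mpr fun x' hx' h' => hno x' h' hx'
        rw [interior_compl] at this
        exact this hx
      obtain ⟨a, ha, haξ⟩ := hclA ξ (hG₁A hξ.1)
      exact hξA (hgen a haξ (subset_closure ha) ▸ ha)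
    refine ⟨hξA, ?_⟩
    have hind' : ProCons.IsIndConstructible (A ∪ (closure {ξ})ᶜ) := by
      refine (ConsPts12.isLocallyConstructible_iff.mp ?_).1
      have h2 : IsLocallyConstructible ((closure {ξ})ᶜ : Set Y) :=
        Cons62.isLocallyConstructible_compl (ConsProp93.isLocallyConstructible_of_isClosed isClosed_closure)
      exact hA.union h2
    refine (ConsPts12.mem_interior_iff hind' ξ).mpr fun w hw => ?_
    by_cases h : w ∈ closure {ξ}
    · exact .inl ((hw.antisymm (specializes_iff_mem_closure.mpr h)).eq ▸ hξA)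
    · exact .inr h
  let Mg : Set Y := {ξ | ξ ∈ M ∧ g ξ = genericPoint S}
  haveI : Finite Mg := (hG₁.subset fun ξ hξ => hξ.1.1).to_subtype
  haveI : Finite M := (hG₁.subset fun ξ hξ => hξ.1).to_subtype
  have key : ∀ ξ : Mg, ∃ U : S.Opens, genericPoint S ∈ U ∧ ∀ s ∈ U, (∃ y, MinOver g s ξ.1 y) ∧
      (∀ y, MinOver g s ξ.1 y → E4O.fdeg g y = E4O.fdeg g ξ.1 ∧ y ∈ A ∧
        ∀ ξ' ∈ M, ξ' ≠ ξ.1 → ¬ ξ' ⤳ y) := by
    intro ξ
    obtain ⟨U₁, hU₁, h₁⟩ := exists_nhd_minOver g ξ.1 ξ.2.2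
    obtain ⟨U₂, hU₂, h₂⟩ := exists_nhd_avoid g ξ.1 ξ.2.2 (D := (interior (A ∪ (closure {ξ.1})ᶜ))ᶜ ∪
      ⋃ ξ' : {η : M // η.1 ≠ ξ.1}, closure {ξ'.1.1})
      (isOpen_interior.isClosed_compl.union (isClosed_iUnion_of_finite fun _ => isClosed_closure)) (by
      rintro (h | h)
      · exact h (hMA _ ξ.2.1).2
      · obtain ⟨⟨η, hη⟩, h⟩ := Set.mem_iUnion.mp h
        exact hη (ξ.2.1.2 η.1 η.2.1 (specializes_iff_mem_closure.mpr h)))
    refine ⟨U₁ ⊓ U₂, ⟨hU₁, hU₂⟩, fun s hs => ⟨(h₁ s hs.1).1, fun y hy => ⟨(h₁ s hs.1).2 y hy, ?_, ?_⟩⟩⟩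
    · have : y ∈ interior (A ∪ (closure {ξ.1})ᶜ) := by
        by_contra h
        exact h₂ s hs.2 y (.inl h) hy
      exact (interior_subset this).resolve_right fun h => h (specializes_iff_mem_closure.mp hy.2.1)
    · intro ξ' hξ' hne hsp
      exact h₂ s hs.2 y (.inr (Set.mem_iUnion.mpr ⟨⟨⟨ξ', hξ'⟩, hne⟩, specializes_iff_mem_closure.mp hsp⟩)) hy
  choose U hU h using key
  let V : Set S := ⋂ ξ : M, if g ξ.1 = genericPoint S then Set.univ else (closure {g ξ.1})ᶜ
  have hV : IsOpen V := isOpen_iInter_of_finite fun ξ => by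
    split
    · exact isOpen_univ
    · exact isClosed_closure.isOpen_compl
  refine ⟨⟨(⋂ ξ : Mg, (U ξ : Set S)) ∩ V, (isOpen_iInter_of_finite fun ξ => (U ξ).2).inter hV⟩,
    E4O.fdeg g '' Mg, ⟨Set.mem_iInter.mpr hU, Set.mem_iInter.mpr fun ξ => ?_⟩, fun s hs => ?_⟩
  · by_cases hη : g ξ.1 = genericPoint S
    · simp [hη]
    · rw [if_neg hη]
      exact fun hc => hη ((specializes_iff_mem_closure.mpr hc).antisymm (genericPoint_specializes _)).eq
  have hover : ∀ z ∈ A, g z = s → ∃ ξ : Mg, ∃ y, MinOver g s ξ.1 y ∧ y ⤳ z := by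
    intro z hz hzs
    obtain ⟨ξ, hξ, hξz⟩ := hM z (subset_closure hz)
    have hgξ : g ξ = genericPoint S := by
      by_contra hne
      have := Set.mem_iInter.mp hs.2 ⟨ξ, hξ⟩
      rw [if_neg hne] at this
      exact this (hzs ▸ specializes_iff_mem_closure.mp (hξz.map g.continuous))
    obtain ⟨y, hy, hyz⟩ := exists_minOver g hzs hξz
    exact ⟨⟨ξ, hξ, hgξ⟩, y, hy, hyz⟩
  have hsU := fun ξ => h ξ s (Set.mem_iInter.mp hs.1 ξ)
  have hmax : ∀ (ξ : Mg) (y : Y), MinOver g s ξ.1 y → y ∈ maxPts (A ∩ g ⁻¹' {s}) := by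
    intro ξ y hy
    refine ⟨⟨((hsU ξ).2 y hy).2.1, hy.1⟩, fun w hw hwy => ?_⟩
    obtain ⟨ξ', y', hy', hy'w⟩ := hover w hw.1 hw.2
    by_cases he : ξ'.1 = ξ.1
    · have hy'y : y' = y := hy.2.2 y' hy'.1 (he ▸ hy'.2.1) (hy'w.trans hwy)
      exact (hwy.antisymm (hy'y ▸ hy'w)).eq
    · exact absurd (hy'.2.1.trans (hy'w.trans hwy)) (((hsU ξ).2 y hy).2.2 ξ'.1 ξ'.2.1 he)
  ext d
  constructor
  · rintro ⟨z, hz, rfl⟩
    obtain ⟨ξ, y, hy, hyz⟩ := hover z hz.1.1 hz.1.2
    obtain rfl := hz.2 y (hmax ξ y hy).1 hyz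
    exact ⟨ξ.1, ξ.2, (((hsU ξ).2 y hy).1).symm⟩
  · rintro ⟨ξ, hξ, rfl⟩
    obtain ⟨y, hy⟩ := (hsU ⟨ξ, hξ⟩).1
    exact ⟨y, hmax ⟨ξ, hξ⟩ y hy, ((hsU ⟨ξ, hξ⟩).2 y hy).1⟩

end Generic

/-- The maximal points of the trace on a fibre. -/
theorem maxDims_fiber {Y S : Scheme.{u}} (g : Y ⟶ S) [LocallyOfFiniteType g] (A : Set Y) (s : S) :
    maxDims (g.fiberι s ⁻¹' A) = (fun n : ℕ => (n : WithBot ℕ∞)) '' (E4O.fdeg g '' maxPts (A ∩ g ⁻¹' {s})) := by
  ext d
  simp only [maxDims, Set.mem_image, exists_exists_and_eq_and]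
  constructor
  · rintro ⟨z, hz, rfl⟩
    refine ⟨g.fiberι s z, ⟨⟨hz.1, fiberι_over g s z⟩, fun w hw hwz => ?_⟩, (dim_closure_fiber g s z).symm⟩
    obtain ⟨w, rfl⟩ := exists_fiber_pt g hw.2
    rw [hz.2 w hw.1 ((fiberι_specializes g s).mp hwz)]
  · rintro ⟨y, hy, rfl⟩
    obtain ⟨z, rfl⟩ := exists_fiber_pt g hy.1.2
    refine ⟨z, ⟨hy.1.1, fun w hw hwz => (g.fiberι s).isEmbedding.injective ?_⟩, dim_closure_fiber g s z⟩
    exact hy.2 _ ⟨hw, fiberι_over g s w⟩ ((fiberι_specializes g s).mpr hwz)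

theorem range_of_isPullback {P A B C : Scheme.{u}} {p : P ⟶ A} {q : P ⟶ B} {a : A ⟶ C} {b : B ⟶ C}
    (h : IsPullback p q a b) : Set.range q = b ⁻¹' Set.range a := by
  ext y
  constructor
  · rintro ⟨x, rfl⟩
    exact ⟨p x, by rw [← Scheme.Hom.comp_apply, h.w, Scheme.Hom.comp_apply]⟩
  · rintro ⟨x, hx⟩
    obtain ⟨z, -, hz⟩ := Scheme.Pullback.exists_preimage_pullback x y hx
    refine ⟨h.isoPullback.inv z, ?_⟩
    rw [← Scheme.Hom.comp_apply, h.isoPullback_inv_snd, hz]

/-- The dimensions of the components of the image as a relation on morphisms. -/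
theorem isConsMor_maxDims (Φ : Set (WithBot ℕ∞)) :
    ConsProp.IsConsMor.{u} (fun X Y _ f _ => maxDims (Set.range (f : X ⟶ Y)) = Φ) := by
  refine ⟨?_, ?_⟩
  · intro X X' Y Y' T T' f g f' g' eX eY h _ _ _ _ _ _ _ _ hY hX
    haveI : LocallyOfFiniteType g' := MorphismProperty.of_isPullback hY ‹_›
    obtain ⟨t⟩ : Nonempty T := inferInstance
    obtain ⟨t'⟩ : Nonempty T' := inferInstance
    haveI := ConsProp93.isIso_fromSpecResidueField T t
    haveI := ConsProp93.isIso_fromSpecResidueField T' t'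
    haveI : Flat h := by
      let φ := Spec.preimage (T'.fromSpecResidueField t' ≫ h ≫ inv (T.fromSpecResidueField t))
      have hφ : h = inv (T'.fromSpecResidueField t') ≫ Spec.map φ ≫ T.fromSpecResidueField t := by
        simp [φ, Spec.map_preimage]
      haveI : Flat (Spec.map φ) := by
        rw [HasRingHomProperty.Spec_iff (P := @Flat)]
        letI : Algebra (T.residueField t) (T'.residueField t') := φ.hom.toAlgebra
        exact RingHom.flat_algebraMap_iff.mpr inferInstance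
      rw [hφ]; infer_instance
    haveI : Surjective h := ConsProp93.surjective_of_subsingleton h
    haveI : Flat eY := MorphismProperty.of_isPullback hY.flip ‹_›
    haveI : Surjective eY := MorphismProperty.of_isPullback hY.flip ‹_›
    show maxDims (Set.range f) = Φ ↔ maxDims (Set.range f') = Φ
    rw [range_of_isPullback hX]
    refine Eq.congr_left ?_
    have hgo : ∀ z, z ∈ maxPts (eY ⁻¹' Set.range f) → eY z ∈ maxPts (Set.range f) := by
      intro z hz
      refine ⟨hz.1, fun y hy hyz => ?_⟩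
      obtain ⟨w, hwz, rfl⟩ := Flat.generalizingMap (f := eY) hyz
      rw [hz.2 w hy hwz]
    have hdim : ∀ z, z ∈ maxPts (eY ⁻¹' Set.range f) →
        topologicalKrullDim ↥(closure ({z} : Set Y')) = topologicalKrullDim ↥(closure ({eY z} : Set Y)) := by
      intro z hz
      rw [dim_closure_onePoint g', dim_closure_onePoint g]
      rw [fdeg_eq_of_isPullback hY z fun w hzw hwz => hz.2 w (by
        rw [Set.mem_preimage, ((hwz.map eY.continuous).antisymm hzw).eq]
        exact hz.1) hwz]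
    have hback : ∀ y ∈ maxPts (Set.range f), ∃ z ∈ maxPts (eY ⁻¹' Set.range f), eY z = y := by
      intro y hy
      obtain ⟨z₀, rfl⟩ := eY.surjective y
      haveI : QuasiSober ↥(⇑eY ⁻¹' {eY z₀}) := (eY.fiberHomeo (eY z₀)).symm.isClosedEmbedding.quasiSober
      let a₀ : ↥(⇑eY ⁻¹' {eY z₀}) := ⟨z₀, rfl⟩
      obtain ⟨a, ha⟩ := QuasiSober.sober (irreducibleComponent_mem_irreducibleComponents a₀).1
        (isClosed_irreducibleComponent (x := a₀))
      refine ⟨a.1, ⟨by rw [Set.mem_preimage, show eY a.1 = eY z₀ from a.2]; exact hy.1, fun w hw hwa => ?_⟩, a.2⟩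
      have he : eY w = eY z₀ := hy.2 _ hw ((hwa.map eY.continuous).trans (specializes_of_eq a.2))
      let b : ↥(⇑eY ⁻¹' {eY z₀}) := ⟨w, he⟩
      have hba : b ⤳ a := (subtype_specializes_iff b a).2 hwa
      have h2 : closure {b} ⊆ irreducibleComponent a₀ :=
        (irreducibleComponent_mem_irreducibleComponents a₀).2 isIrreducible_singleton.closure
          (ha.def.symm.le.trans (closure_minimal (Set.singleton_subset_iff.mpr
            (specializes_iff_mem_closure.mp hba)) isClosed_closure))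
      exact congrArg Subtype.val (hba.antisymm (ha.specializes (h2 (subset_closure rfl)))).eq
    ext d
    constructor
    · rintro ⟨y, hy, rfl⟩
      obtain ⟨z, hz, rfl⟩ := hback y hy
      exact ⟨z, hz, hdim z hz⟩
    · rintro ⟨z, hz, rfl⟩
      exact ⟨eY z, hgo z hz, (hdim z hz).symm⟩
  · intro X Y S f g _ _ _ _ _ _
    haveI := LocallyOfFiniteType.isLocallyNoetherian g
    haveI := ConsProp93.qs_of_noetherian g
    haveI : LocallyOfFiniteType f := locallyOfFiniteType_of_comp f g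
    haveI : QuasiCompact f := QuasiCompact.of_comp f g
    have hA : IsLocallyConstructible (Set.range f) := by
      rw [← Set.image_univ]
      exact f.isLocallyConstructible_image IsConstructible.univ.isLocallyConstructible
    obtain ⟨U, Ψ, hU, h⟩ := exists_nhd_maxDims g hA
    have hloc : ∀ s ∈ U, maxDims (Set.range (MoreMor.fiberMap f g s)) = (fun n : ℕ => (n : WithBot ℕ∞)) '' Ψ :=
      fun s hs => by rw [range_of_isPullback (ConsProp93.isPullback_fiberMap f g s), maxDims_fiber, h s hs]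
    by_cases hΦ : (fun n : ℕ => (n : WithBot ℕ∞)) '' Ψ = Φ
    · exact .inl ⟨_, interior_maximal (fun s hs => (hloc s hs).trans hΦ) U.2 hU⟩
    · exact .inr ⟨_, interior_maximal (fun s hs he => hΦ ((hloc s hs).symm.trans he)) U.2 hU⟩

/-- A constructible subset is the image of a morphism of finite presentation. -/
theorem exists_range_eq (X : Scheme.{u}) [CompactSpace X] [QuasiSeparatedSpace X] {Z : Set X}
    (hZ : IsLocallyConstructible Z) :
    ∃ (W : Scheme.{u}) (j : W ⟶ X), LocallyOfFinitePresentation j ∧ QuasiCompact j ∧ QuasiSeparated j ∧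
      Set.range j = Z := by
  classical
  obtain ⟨t, htf, hta, htu⟩ := ConsPts12.exists_finite_affine_cover X isCompact_univ
  haveI : Finite t := htf.to_subtype
  have hdata : ∀ U : t, ∃ s : PrimeSpectrum.ConstructibleSetData Γ(X, U.1),
      s.toSet = (hta U.1 U.2).fromSpec ⁻¹' Z := by
    intro U
    exact PrimeSpectrum.exists_constructibleSetData_iff.mpr
      (hZ.preimage_of_isOpenEmbedding (hta U.1 U.2).fromSpec.isOpenEmbedding).isConstructible
  choose s hs using hdata
  let ι := Σ U : t, ↥(s U : Finset (PrimeSpectrum.BasicConstructibleSetData Γ(X, U.1)))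
  haveI : Fintype t := htf.fintype
  let R : ι → CommRingCat.{u} := fun i => CommRingCat.of
    (Localization.Away i.2.1.f ⧸ Ideal.span ((algebraMap _ (Localization.Away i.2.1.f)) '' Set.range i.2.1.g))
  let φ : ∀ i : ι, Γ(X, i.1.1) ⟶ R i := fun i => CommRingCat.ofHom
    ((Ideal.Quotient.mk _).comp (algebraMap _ (Localization.Away i.2.1.f)))
  let m : ∀ i : ι, Spec (R i) ⟶ X := fun i => Spec.map (φ i) ≫ (hta i.1.1 i.1.2).fromSpec
  have hrange : ∀ i : ι, Set.range (Spec.map (φ i)) = i.2.1.toSet := by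
    intro i
    show Set.range (PrimeSpectrum.comap _) = _
    rw [show (φ i).hom = (Ideal.Quotient.mk _).comp (algebraMap _ _) from rfl, PrimeSpectrum.comap_comp,
      Set.range_comp, range_comap_of_surjective _ _ Ideal.Quotient.mk_surjective, Ideal.mk_ker]
    let c := PrimeSpectrum.comap (algebraMap Γ(X, i.1.1) (Localization.Away i.2.1.f))
    have he : PrimeSpectrum.zeroLocus ↑(Ideal.span
        ((algebraMap Γ(X, i.1.1) (Localization.Away i.2.1.f)) '' Set.range i.2.1.g)) =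
        c ⁻¹' PrimeSpectrum.zeroLocus (Set.range i.2.1.g) := by
      rw [PrimeSpectrum.zeroLocus_span, PrimeSpectrum.preimage_comap_zeroLocus]
    show c '' _ = _
    rw [he, Set.image_preimage_eq_inter_range, PrimeSpectrum.localization_away_comap_range (Localization.Away i.2.1.f) i.2.1.f, PrimeSpectrum.basicOpen_eq_zeroLocus_compl]
    rfl
  have hfp : ∀ i, LocallyOfFinitePresentation (m i) := by
    intro i
    haveI : LocallyOfFinitePresentation (Spec.map (φ i)) := by
      rw [LocallyOfFinitePresentation.SpecMap_iff]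
      refine RingHom.FinitePresentation.comp (RingHom.FinitePresentation.of_surjective _ Ideal.Quotient.mk_surjective ?_)
        (RingHom.finitePresentation_algebraMap.mpr (IsLocalization.Away.finitePresentation i.2.1.f))
      rw [Ideal.mk_ker]
      exact Submodule.fg_span ((Set.finite_range _).image _)
    infer_instance
  let W := ∐ fun i : ι => Spec (R i)
  refine ⟨W, Sigma.desc m, ?_, ?_, ?_, ?_⟩
  · exact IsZariskiLocalAtSource.sigmaDesc hfp
  · infer_instance
  · infer_instance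
  · refine Set.Subset.antisymm ?_ fun x hx => ?_
    · rintro _ ⟨z, rfl⟩
      obtain ⟨⟨i, y⟩, rfl⟩ := (sigmaMk fun i : ι => Spec (R i)).surjective z
      rw [sigmaMk_mk, ← Scheme.Hom.comp_apply, Sigma.ι_desc, Scheme.Hom.comp_apply]
      have h1 : Spec.map (φ i) y ∈ (s i.1).toSet :=
        Set.mem_iUnion₂.mpr ⟨i.2.1, i.2.2, (hrange i).le ⟨y, rfl⟩⟩
      exact (hs i.1).le h1
    · obtain ⟨U, hU, hxU⟩ := Set.mem_iUnion₂.mp (htu (Set.mem_univ x))
      obtain ⟨q, rfl⟩ := (hta U hU).range_fromSpec.ge hxU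
      obtain ⟨C, hC, hqC⟩ := Set.mem_iUnion₂.mp ((hs ⟨U, hU⟩).ge hx)
      obtain ⟨y, hy⟩ := (hrange ⟨⟨U, hU⟩, ⟨C, hC⟩⟩).ge hqC
      refine ⟨Sigma.ι (fun i : ι => Spec (R i)) ⟨⟨U, hU⟩, ⟨C, hC⟩⟩ y, ?_⟩
      rw [← Scheme.Hom.comp_apply, Sigma.ι_desc, Scheme.Hom.comp_apply, hy]

end Groth.Agent.FBase64.CompDims
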