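import Groth.Agent.FBase64.Cons.CompDims

/-! Irreducible components of locally closed subsets of the fibres. -/

set_option autoImplicit false
set_option linter.style.haveILetI false
set_option backward.isDefEq.respectTransparency false
universe u

open CategoryTheory CategoryTheory.Limits AlgebraicGeometry Topology TopologicalSpace
open Groth.Agent.FBase64.AssFibre Groth.Agent.FBase64.AssTensor

namespace Groth.Agent.FBase64.CompDims

/-- The dimensions of the irreducible components of a space. -/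
def compDims (A : Type u) [TopologicalSpace A] : Set (WithBot ℕ∞) :=
  (fun T : Set A => topologicalKrullDim ↥T) '' irreducibleComponents A

theorem compDims_subset {A B : Type u} [TopologicalSpace A] [TopologicalSpace B] (h : A ≃ₜ B) :
    compDims A ⊆ compDims B := by
  rintro _ ⟨T, hT, rfl⟩
  refine ⟨h '' T, ⟨hT.1.image _ h.continuous.continuousOn, fun T' hT' hle => ?_⟩,
    (IsHomeomorph.topologicalKrullDim_eq _ (h.image T).isHomeomorph).symm⟩
  have h1 : h.symm '' T' ⊆ T := hT.2 (hT'.image _ h.symm.continuous.continuousOn)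
    fun x hx => ⟨h x, hle ⟨x, hx, rfl⟩, h.symm_apply_apply x⟩
  exact fun y hy => ⟨h.symm y, h1 ⟨y, hy, rfl⟩, h.apply_symm_apply y⟩

theorem compDims_congr {A B : Type u} [TopologicalSpace A] [TopologicalSpace B] (h : A ≃ₜ B) :
    compDims A = compDims B := (compDims_subset h).antisymm (compDims_subset h.symm)

theorem compDims_locallyClosed {Y T : Scheme.{u}} (g : Y ⟶ T) [Subsingleton T] [LocallyOfFiniteType g]
    {A : Set Y} (hA : IsLocallyClosed A) : compDims ↥A = maxDims A := by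
  obtain ⟨O, C, hO, hC, rfl⟩ := hA
  have hdim : ∀ z ∈ O ∩ C, topologicalKrullDim ↥(Subtype.val ⁻¹' closure {z} : Set ↥(O ∩ C)) =
      topologicalKrullDim ↥(closure ({z} : Set Y)) := by
    intro z hz
    have hcl : closure {z} ⊆ C := closure_minimal (Set.singleton_subset_iff.mpr hz.2) hC
    rw [E4O.dim_preimage_of_isEmbedding IsEmbedding.subtypeVal, Subtype.range_coe, dim_closure_onePoint g,
      ← E4O.dim_open_inter_fibreClosure (f := g) z hO hz.1]
    refine E4O.dim_set_congr ?_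
    rw [show g ⁻¹' {g z} = Set.univ from Set.eq_univ_of_forall fun w => Subsingleton.elim _ _, Set.inter_univ]
    exact Set.ext fun w => ⟨fun h => ⟨h.2.1, h.1⟩, fun h => ⟨h.2, h.1, hcl h.2⟩⟩
  have hirr : ∀ z ∈ O ∩ C, IsIrreducible (Subtype.val ⁻¹' closure {z} : Set ↥(O ∩ C)) := fun z hz => by
    rw [show (Subtype.val ⁻¹' closure {z} : Set ↥(O ∩ C)) = closure {⟨z, hz⟩} by
      rw [IsInducing.subtypeVal.closure_eq_preimage_closure_image, Set.image_singleton]]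
    exact isIrreducible_singleton.closure
  have hgen : ∀ R : Set ↥(O ∩ C), IsIrreducible R → ∃ z ∈ O ∩ C, R ⊆ Subtype.val ⁻¹' closure {z} := by
    intro R hR
    obtain ⟨ξ, hξ⟩ := QuasiSober.sober ((hR.image _ continuous_subtype_val.continuousOn).closure) isClosed_closure
    obtain ⟨r, hr⟩ := hR.nonempty
    have hs : ∀ r ∈ R, ξ ⤳ (r : Y) := fun r hr => hξ.specializes (subset_closure ⟨r, hr, rfl⟩)
    refine ⟨ξ, ⟨(hs r hr).mem_open hO r.2.1, ?_⟩, fun t ht => specializes_iff_mem_closure.mp (hs t ht)⟩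
    exact closure_minimal (by rintro _ ⟨t, -, rfl⟩; exact t.2.2) hC hξ.mem
  ext d
  constructor
  · rintro ⟨R, hR, rfl⟩
    obtain ⟨z, hz, hle⟩ := hgen R hR.1
    obtain rfl : R = Subtype.val ⁻¹' closure {z} := hle.antisymm (hR.2 (hirr z hz) hle)
    refine ⟨z, ⟨hz, fun w hw hwz => ?_⟩, (hdim z hz).symm⟩
    have hsub : (Subtype.val ⁻¹' closure {w} : Set ↥(O ∩ C)) ⊆ Subtype.val ⁻¹' closure {z} :=
      hR.2 (hirr w hw) fun t ht => specializes_iff_mem_closure.mp (hwz.trans (specializes_iff_mem_closure.mpr ht))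
    exact (hwz.antisymm (specializes_iff_mem_closure.mpr
      (hsub (show (⟨w, hw⟩ : ↥(O ∩ C)) ∈ Subtype.val ⁻¹' closure {w} from subset_closure rfl)))).eq
  · rintro ⟨z, ⟨hz, hmax⟩, rfl⟩
    refine ⟨_, ⟨hirr z hz, fun R hR hle => ?_⟩, hdim z hz⟩
    obtain ⟨w, hw, hRw⟩ := hgen R hR
    obtain rfl := hmax w hw (specializes_iff_mem_closure.mpr
      (hRw (hle (show (⟨z, hz⟩ : ↥(O ∩ C)) ∈ Subtype.val ⁻¹' closure {z} from subset_closure rfl))))
    exact hRw

/-- The components of the trace of a set on a fibre. -/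
theorem compDims_fibre {X S : Scheme.{u}} (f : X ⟶ S) [LocallyOfFiniteType f] (Z : Set X) (s : S)
    (hZ : IsLocallyClosed (Subtype.val ⁻¹' Z : Set ↥(⇑f ⁻¹' {s}))) :
    compDims ↥(Z ∩ ⇑f ⁻¹' {s}) = (fun n : ℕ => (n : WithBot ℕ∞)) '' (E4O.fdeg f '' maxPts (Z ∩ f ⁻¹' {s})) := by
  rw [← maxDims_fiber, ← compDims_locallyClosed (f.fiberToSpecResidueField s) (A := f.fiberι s ⁻¹' Z)]
  · refine (compDims_congr ?_).symm
    refine ((f.fiberι s).isEmbedding.homeomorphImage _).trans (Homeomorph.setCongr ?_)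
    rw [Set.image_preimage_eq_inter_range, f.range_fiberι]
  · let c : ↥(f.fiber s) → ↥(⇑f ⁻¹' {s}) := fun z => ⟨f.fiberι s z, fiberι_over f s z⟩
    exact hZ.preimage (f := c) ((f.fiberι s).continuous.subtype_mk _)

theorem isLocallyConstructible_compDims {X S : Scheme.{u}} (f : X ⟶ S)
    [LocallyOfFinitePresentation f] [QuasiCompact f] [QuasiSeparated f]
    (Z : Set X) (hZ : IsLocallyConstructible Z)
    (hZs : ∀ s : S, IsLocallyClosed (Subtype.val ⁻¹' Z : Set ↥(⇑f ⁻¹' {s}))) (Φ : Set (WithBot ℕ∞)) :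
    IsLocallyConstructible {s : S | compDims ↥(Z ∩ ⇑f ⁻¹' {s}) = Φ} := by
  refine ConsProp93.isLocallyConstructible_of_affine fun V hV => ?_
  haveI : IsAffine (V : Scheme.{u}) := hV
  haveI : CompactSpace ↥((f ⁻¹ᵁ V : X.Opens) : Scheme.{u}) :=
    isCompact_iff_compactSpace.mp (QuasiCompact.isCompact_preimage (f := f) (V : Set S) V.2 hV.isCompact)
  haveI : QuasiSeparatedSpace ↥((f ⁻¹ᵁ V : X.Opens) : Scheme.{u}) := quasiSeparatedSpace_of_quasiSeparated (f ∣_ V)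
  obtain ⟨W, j, hj, hjq, hjs, hrange⟩ :=
    exists_range_eq (f ⁻¹ᵁ V) (hZ.preimage_of_isOpenEmbedding (f ⁻¹ᵁ V).ι.isOpenEmbedding)
  convert ConsProp93.isLocallyConstructible_locusMor (isConsMor_maxDims Φ) j (f ∣_ V) using 1
  ext s
  show compDims ↥(Z ∩ ⇑f ⁻¹' {V.ι s}) = Φ ↔ maxDims (Set.range (MoreMor.fiberMap j (f ∣_ V) s)) = Φ
  rw [range_of_isPullback (ConsProp93.isPullback_fiberMap j (f ∣_ V) s), maxDims_fiber, hrange,
    compDims_fibre f Z (V.ι s) (hZs _)]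
  refine Eq.congr_left (congrArg _ ?_)
  have hsq := isPullback_morphismRestrict f V
  have hι : ∀ x, f ((f ⁻¹ᵁ V).ι x) = V.ι ((f ∣_ V) x) := fun x => by
    rw [← Scheme.Hom.comp_apply, hsq.flip.w, Scheme.Hom.comp_apply]
  have hfd : ∀ x, E4O.fdeg (f ∣_ V) x = E4O.fdeg f ((f ⁻¹ᵁ V).ι x) := fun x => by
    obtain ⟨a, ha, -, hd⟩ := E4O.exists_fdeg_eq_of_isPullback hsq.flip ((f ⁻¹ᵁ V).ι x) ((f ∣_ V) x) (hι x)
    rwa [(f ⁻¹ᵁ V).ι.isOpenEmbedding.injective ha] at hd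
  have hpts : maxPts (Z ∩ ⇑f ⁻¹' {V.ι s}) =
      (f ⁻¹ᵁ V).ι '' maxPts ((f ⁻¹ᵁ V).ι ⁻¹' Z ∩ ⇑(f ∣_ V) ⁻¹' {s}) := by
    have hmem : ∀ x, (f ⁻¹ᵁ V).ι x ∈ Z ∩ ⇑f ⁻¹' {V.ι s} ↔ x ∈ (f ⁻¹ᵁ V).ι ⁻¹' Z ∩ ⇑(f ∣_ V) ⁻¹' {s} := fun x => by
      simp only [Set.mem_inter_iff, Set.mem_preimage, Set.mem_singleton_iff, hι,
        V.ι.isOpenEmbedding.injective.eq_iff]
    have hlift : ∀ y, f y = V.ι s → ∃ x, (f ⁻¹ᵁ V).ι x = y := fun y hy =>
      (Scheme.Opens.range_ι (f ⁻¹ᵁ V)).ge (show f y ∈ V from hy ▸ s.2)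
    ext y
    constructor
    · intro hy
      obtain ⟨x, rfl⟩ := hlift y hy.1.2
      exact ⟨x, ⟨(hmem x).mp hy.1, fun w hw hwx => (f ⁻¹ᵁ V).ι.isOpenEmbedding.injective
        (hy.2 _ ((hmem w).mpr hw) (hwx.map (f ⁻¹ᵁ V).ι.continuous))⟩, rfl⟩
    · rintro ⟨x, hx, rfl⟩
      refine ⟨(hmem x).mpr hx.1, fun w hw hwx => ?_⟩
      obtain ⟨w, rfl⟩ := hlift w hw.2
      rw [hx.2 w ((hmem w).mp hw) ((f ⁻¹ᵁ V).ι.isOpenEmbedding.isInducing.specializes_iff.mp hwx)]
  rw [hpts, Set.image_image]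
  exact Set.image_congr fun x _ => (hfd x).symm

end Groth.Agent.FBase64.CompDims
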