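import Groth.Agent.FlatCrit65.GenFree
import Groth.Agent.Cons62.Core
import Groth.Agent.Cons62.FibreTop
import Groth.Agent.Cons62.Model
import Groth.Agent.S4801
import Mathlib.RingTheory.Flat.FaithfullyFlat.Basic
import Mathlib.LinearAlgebra.TensorProduct.Pi
import Mathlib.LinearAlgebra.Matrix.ToLin

/-! The locus where a sequence of fibres is exact. -/

set_option autoImplicit false
set_option linter.style.haveILetI false
set_option maxHeartbeats 1000000
universe u

open TensorProduct

namespace Groth.Agent.FBase64.FibreExact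

/-- The locus of exactness. -/
def exactLocus {R F G H : Type u} [CommRing R] [AddCommGroup F] [Module R F] [AddCommGroup G] [Module R G]
    [AddCommGroup H] [Module R H] (u : F →ₗ[R] G) (v : G →ₗ[R] H) : Set (PrimeSpectrum R) :=
  {p | Function.Exact (u.baseChange p.asIdeal.ResidueField) (v.baseChange p.asIdeal.ResidueField)}

/-- Exactness on the fibres is insensitive to extending the base. -/
theorem exactLocus_baseChange {R₀ R F₀ G₀ H₀ F G H : Type u} [CommRing R₀] [CommRing R] [Algebra R₀ R]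
    [AddCommGroup F₀] [Module R₀ F₀] [AddCommGroup G₀] [Module R₀ G₀] [AddCommGroup H₀] [Module R₀ H₀]
    [AddCommGroup F] [Module R F] [AddCommGroup G] [Module R G] [AddCommGroup H] [Module R H]
    (u₀ : F₀ →ₗ[R₀] G₀) (v₀ : G₀ →ₗ[R₀] H₀) (u : F →ₗ[R] G) (v : G →ₗ[R] H)
    (eF : R ⊗[R₀] F₀ ≃ₗ[R] F) (eG : R ⊗[R₀] G₀ ≃ₗ[R] G) (eH : R ⊗[R₀] H₀ ≃ₗ[R] H)
    (hu : ∀ x, u (eF (1 ⊗ₜ x)) = eG (1 ⊗ₜ u₀ x)) (hv : ∀ x, v (eG (1 ⊗ₜ x)) = eH (1 ⊗ₜ v₀ x)) :
    exactLocus u v = PrimeSpectrum.comap (algebraMap R₀ R) ⁻¹' exactLocus u₀ v₀ := by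
  ext p
  let q := PrimeSpectrum.comap (algebraMap R₀ R) p
  let κ := p.asIdeal.ResidueField
  let κ₀ := q.asIdeal.ResidueField
  letI : Algebra κ₀ κ := (Ideal.ResidueField.map q.asIdeal p.asIdeal (algebraMap R₀ R) rfl).toAlgebra
  haveI : IsScalarTower R₀ κ₀ κ := IsScalarTower.of_algebraMap_eq fun c =>
    ((Ideal.ResidueField.map_algebraMap q.asIdeal p.asIdeal (algebraMap R₀ R) rfl c).trans
      (IsScalarTower.algebraMap_apply R₀ R κ c).symm).symm
  have hsq : ∀ {M₀ N₀ M N : Type u} [AddCommGroup M₀] [Module R₀ M₀] [AddCommGroup N₀] [Module R₀ N₀]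
      [AddCommGroup M] [Module R M] [AddCommGroup N] [Module R N] (f₀ : M₀ →ₗ[R₀] N₀) (f : M →ₗ[R] N)
      (eM : R ⊗[R₀] M₀ ≃ₗ[R] M) (eN : R ⊗[R₀] N₀ ≃ₗ[R] N), (∀ x, f (eM (1 ⊗ₜ x)) = eN (1 ⊗ₜ f₀ x)) →
      ∀ z : κ ⊗[κ₀] (κ₀ ⊗[R₀] M₀),
        f.baseChange κ (TensorProduct.AlgebraTensorModule.congr (LinearEquiv.refl κ κ) eM
          ((TensorProduct.AlgebraTensorModule.cancelBaseChange R₀ R κ κ M₀).symm
            (TensorProduct.AlgebraTensorModule.cancelBaseChange R₀ κ₀ κ κ M₀ z))) =
        TensorProduct.AlgebraTensorModule.congr (LinearEquiv.refl κ κ) eN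
          ((TensorProduct.AlgebraTensorModule.cancelBaseChange R₀ R κ κ N₀).symm
            (TensorProduct.AlgebraTensorModule.cancelBaseChange R₀ κ₀ κ κ N₀ ((f₀.baseChange κ₀).lTensor κ z))) := by
    intro M₀ N₀ M N _ _ _ _ _ _ _ _ f₀ f eM eN hf z
    induction z using TensorProduct.induction_on with
    | zero => simp
    | add a b ha hb => simp only [map_add, ha, hb]
    | tmul c y =>
      induction y using TensorProduct.induction_on with
      | zero => simp
      | add a b ha hb => simp only [TensorProduct.tmul_add, map_add, ha, hb]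
      | tmul d x => simp [hf]
  let e := fun (M₀ : Type u) [AddCommGroup M₀] [Module R₀ M₀] (M : Type u) [AddCommGroup M] [Module R M]
      (eM : R ⊗[R₀] M₀ ≃ₗ[R] M) =>
    (TensorProduct.AlgebraTensorModule.cancelBaseChange R₀ κ₀ κ κ M₀ ≪≫ₗ
      (TensorProduct.AlgebraTensorModule.cancelBaseChange R₀ R κ κ M₀).symm ≪≫ₗ
      TensorProduct.AlgebraTensorModule.congr (LinearEquiv.refl κ κ) eM).toAddEquiv
  show Function.Exact (u.baseChange κ) (v.baseChange κ) ↔
    Function.Exact (u₀.baseChange κ₀) (v₀.baseChange κ₀)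
  rw [← Module.FaithfullyFlat.lTensor_exact_iff_exact κ₀ κ]
  exact Function.Exact.iff_of_ladder_addEquiv
    (f₁₂ := ((u₀.baseChange κ₀).lTensor κ).toAddMonoidHom) (f₂₃ := ((v₀.baseChange κ₀).lTensor κ).toAddMonoidHom)
    (g₁₂ := (u.baseChange κ).toAddMonoidHom) (g₂₃ := (v.baseChange κ).toAddMonoidHom)
    (e F₀ F eF) (e G₀ G eG) (e H₀ H eH)
    (AddMonoidHom.ext fun z => hsq u₀ u eF eG hu z) (AddMonoidHom.ext fun z => hsq v₀ v eG eH hv z)

theorem exists_pow_smul_eq_zero {R : Type u} [CommRing R] [IsDomain R] {f : R} (hf : f ≠ 0) (κ : Type u) [Field κ]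
    [Algebra R κ] (huκ : IsUnit (algebraMap R κ f)) (Z : Type u) [AddCommGroup Z] [Module R Z]
    (hZ : GenFree62.FreeAway f Z) (hs : Subsingleton (κ ⊗[R] Z)) (z : Z) : ∃ n : ℕ, f ^ n • z = 0 := by
  let A := Localization.Away f
  haveI : IsDomain A := IsLocalization.isDomain_localization (powers_le_nonZeroDivisors_of_noZeroDivisors hf)
  haveI := hZ A (IsLocalization.Away.algebraMap_isUnit f)
  letI : Algebra A κ := (IsLocalization.Away.lift f huκ : A →+* κ).toAlgebra
  haveI : IsScalarTower R A κ := IsScalarTower.of_algebraMap_eq fun a => (IsLocalization.Away.lift_eq f huκ a).symm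
  haveI : Subsingleton (κ ⊗[A] (A ⊗[R] Z)) :=
    (TensorProduct.AlgebraTensorModule.cancelBaseChange R A κ κ Z).toEquiv.subsingleton
  haveI h1 : Subsingleton (A ⊗[R] Z) := by
    let b := Module.Free.chooseBasis A (A ⊗[R] Z)
    refine subsingleton_of_forall_eq 0 fun z => b.ext_elem fun i => ?_
    exact absurd (Subsingleton.elim _ _) ((b.baseChange κ).ne_zero i)
  let m := TensorProduct.mk R A Z 1
  haveI : IsLocalizedModule (Submonoid.powers f) m :=
    (isLocalizedModule_iff_isBaseChange (Submonoid.powers f) A _).mpr (TensorProduct.isBaseChange R Z A)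
  obtain ⟨⟨_, n, rfl⟩, hn⟩ := (IsLocalizedModule.eq_zero_iff (Submonoid.powers f) m).mp (Subsingleton.elim (m z) 0)
  exact ⟨n, hn⟩

theorem subtype_baseChange_injective {R B Q : Type u} [CommRing R] [CommRing B] [Algebra R B] [AddCommGroup Q]
    [Module B Q] [Module R Q] [IsScalarTower R B Q] (S : Submodule B Q) {f : R} (hS : GenFree62.FreeAway f (Q ⧸ S))
    (κ : Type u) [Field κ] [Algebra R κ] (huκ : IsUnit (algebraMap R κ f)) :
    Function.Injective ((S.restrictScalars R).subtype.baseChange κ) := by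
  refine Cons62.baseChange_injective_of_freeAway _ (Submodule.subtype_injective _) (hS.of_equiv ?_) κ huκ
  exact (Submodule.Quotient.restrictScalarsEquiv R S).symm ≪≫ₗ Submodule.quotEquivOfEq _ _
    (Submodule.range_subtype _).symm

/-- If the generic fibre sequence is not exact, neither are the nearby fibres. -/
theorem exists_forall_not_exact {R B F G H : Type u} [CommRing R] [IsDomain R] [IsNoetherianRing R] [CommRing B]
    [Algebra R B] [Algebra.FiniteType R B] [AddCommGroup F] [Module B F] [Module R F] [IsScalarTower R B F]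
    [Module.Finite B F] [AddCommGroup G] [Module B G] [Module R G] [IsScalarTower R B G] [Module.Finite B G]
    [AddCommGroup H] [Module B H] [Module R H] [IsScalarTower R B H] [Module.Finite B H]
    (u : F →ₗ[B] G) (v : G →ₗ[B] H)
    (hgen : ¬ Function.Exact ((u.restrictScalars R).baseChange (FractionRing R))
      ((v.restrictScalars R).baseChange (FractionRing R))) :
    ∃ f : R, f ≠ 0 ∧ ∀ p : PrimeSpectrum R, f ∉ p.asIdeal → p ∉ exactLocus (u.restrictScalars R) (v.restrictScalars R) := by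
  classical
  haveI : IsNoetherianRing B := Algebra.FiniteType.isNoetherianRing R B
  let vu := v.comp u
  let I := LinearMap.range vu
  let D := LinearMap.range v
  let N := LinearMap.ker v
  let M := ↥N ⧸ (LinearMap.range u).comap N.subtype
  obtain ⟨f₁, hf₁, hHI, -⟩ := FlatCrit65.generic_freeness (R := R) (S := B) (M := H ⧸ I)
  obtain ⟨f₂, hf₂, hI, -⟩ := FlatCrit65.generic_freeness (R := R) (S := B) (M := ↥I)
  obtain ⟨f₃, hf₃, hHD, -⟩ := FlatCrit65.generic_freeness (R := R) (S := B) (M := H ⧸ D)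
  obtain ⟨f₄, hf₄, hD, -⟩ := FlatCrit65.generic_freeness (R := R) (S := B) (M := ↥D)
  obtain ⟨f₅, hf₅, hM, -⟩ := FlatCrit65.generic_freeness (R := R) (S := B) (M := M)
  let f := f₁ * f₂ * f₃ * f₄ * f₅
  have hf : f ≠ 0 := mul_ne_zero (mul_ne_zero (mul_ne_zero (mul_ne_zero hf₁ hf₂) hf₃) hf₄) hf₅
  have hHI' : GenFree62.FreeAway f (H ⧸ I) := (((hHI.mul_right f₂).mul_right f₃).mul_right f₄).mul_right f₅
  have hI' : GenFree62.FreeAway f ↥I := (((hI.of_dvd (dvd_mul_left f₂ f₁)).mul_right f₃).mul_right f₄).mul_right f₅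
  have hHD' : GenFree62.FreeAway f (H ⧸ D) := ((hHD.of_dvd (dvd_mul_left f₃ (f₁ * f₂))).mul_right f₄).mul_right f₅
  have hD' : GenFree62.FreeAway f ↥D := (hD.of_dvd (dvd_mul_left f₄ (f₁ * f₂ * f₃))).mul_right f₅
  have hM' : GenFree62.FreeAway f M := hM.of_dvd (dvd_mul_left f₅ (f₁ * f₂ * f₃ * f₄))
  refine ⟨f, hf, fun p hp hex => hgen ?_⟩
  let κ := p.asIdeal.ResidueField
  have huκ : IsUnit (algebraMap R κ f) :=
    isUnit_iff_ne_zero.mpr fun h => hp (Ideal.algebraMap_residueField_eq_zero.mp h)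
  -- `v ∘ u` dies
  let pI : F →ₗ[R] ↥(I.restrictScalars R) := (vu.rangeRestrict).restrictScalars R
  have hIκ : Subsingleton (κ ⊗[R] ↥(I.restrictScalars R)) := by
    refine subsingleton_of_forall_eq 0 fun z => subtype_baseChange_injective I hHI' κ huκ ?_
    obtain ⟨w, rfl⟩ := LinearMap.lTensor_surjective κ (show Function.Surjective pI from vu.surjective_rangeRestrict) z
    rw [map_zero, ← hex.apply_apply_eq_zero w]
    induction w using TensorProduct.induction_on with
    | zero => simp
    | add a b ha hb => simp only [map_add, ha, hb]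
    | tmul c x => rfl
  have hvu : ∀ x : F, ∃ n : ℕ, f ^ n • v (u x) = 0 := fun x => by
    obtain ⟨n, hn⟩ := exists_pow_smul_eq_zero hf κ huκ ↥I hI' hIκ ⟨v (u x), x, rfl⟩
    exact ⟨n, congrArg Subtype.val hn⟩
  -- the homology dies
  have hNinj : Function.Injective ((N.restrictScalars R).subtype.baseChange κ) :=
    subtype_baseChange_injective N (hD'.of_equiv ((v.quotKerEquivRange).symm.restrictScalars R)) κ huκ
  let πM : ↥(N.restrictScalars R) →ₗ[R] M := ((LinearMap.range u).comap N.subtype).mkQ.restrictScalars R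
  have hMκ : Subsingleton (κ ⊗[R] M) := by
    refine subsingleton_of_forall_eq 0 fun z => ?_
    have hπM : Function.Surjective πM := by
      intro m
      obtain ⟨x, hx⟩ := ((LinearMap.range u).comap N.subtype).mkQ_surjective m
      exact ⟨x, hx⟩
    obtain ⟨z, rfl⟩ := LinearMap.lTensor_surjective κ hπM z
    have hz : (v.restrictScalars R).baseChange κ ((N.restrictScalars R).subtype.baseChange κ z) = 0 := by
      induction z using TensorProduct.induction_on with
      | zero => simp
      | add a b ha hb => simp only [map_add, ha, hb, add_zero]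
      | tmul c x =>
        rw [LinearMap.baseChange_tmul, LinearMap.baseChange_tmul]
        exact (congrArg (c ⊗ₜ[R] ·) (LinearMap.mem_ker.mp x.2)).trans (TensorProduct.tmul_zero _ _)
    obtain ⟨w, hw⟩ := (hex _).mp hz
    have himg : ∀ w : κ ⊗[R] F, ∃ n : κ ⊗[R] ↥(N.restrictScalars R),
        (N.restrictScalars R).subtype.baseChange κ n = (u.restrictScalars R).baseChange κ w ∧ πM.lTensor κ n = 0 := by
      intro w
      induction w using TensorProduct.induction_on with
      | zero => exact ⟨0, by simp⟩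
      | add a b ha hb =>
        obtain ⟨a', ha1, ha2⟩ := ha
        obtain ⟨b', hb1, hb2⟩ := hb
        exact ⟨a' + b', by rw [map_add, map_add, ha1, hb1], by rw [map_add, ha2, hb2, add_zero]⟩
      | tmul c x =>
        obtain ⟨n, hn⟩ := hvu x
        obtain ⟨e, he⟩ := (huκ.pow n).exists_left_inv
        have hmem : f ^ n • u x ∈ N.restrictScalars R := by
          show v (f ^ n • u x) = 0
          rw [LinearMap.map_smul_of_tower]; exact hn
        refine ⟨(e * c) ⊗ₜ ⟨_, hmem⟩, ?_, ?_⟩
        · rw [LinearMap.baseChange_tmul, LinearMap.baseChange_tmul, Submodule.subtype_apply,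
            TensorProduct.tmul_smul, ← algebraMap_smul κ (f ^ n), TensorProduct.smul_tmul', smul_eq_mul, map_pow,
            ← mul_assoc, mul_comm _ e, he, one_mul]
          rfl
        · have h0 : πM ⟨_, hmem⟩ = 0 := (Submodule.Quotient.mk_eq_zero _).mpr
            ⟨f ^ n • x, LinearMap.map_smul_of_tower u _ _⟩
          rw [LinearMap.lTensor_tmul, h0, TensorProduct.tmul_zero]
    obtain ⟨n', hn1, hn2⟩ := himg w
    rw [← hNinj (hn1.trans hw)]
    exact hn2
  -- so the generic sequence is exact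
  let K := FractionRing R
  haveI hlocG : IsLocalizedModule (nonZeroDivisors R) (TensorProduct.mk R K G 1) :=
    (isLocalizedModule_iff_isBaseChange (nonZeroDivisors R) K _).mpr (TensorProduct.isBaseChange R G K)
  haveI hlocH : IsLocalizedModule (nonZeroDivisors R) (TensorProduct.mk R K H 1) :=
    (isLocalizedModule_iff_isBaseChange (nonZeroDivisors R) K _).mpr (TensorProduct.isBaseChange R H K)
  have hK : ∀ {r : R}, r ≠ 0 → algebraMap R K r ≠ 0 := fun hr h =>
    hr (IsFractionRing.injective R K (h.trans (map_zero _).symm))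
  intro z
  refine ⟨fun hz => ?_, ?_⟩
  · obtain ⟨⟨y, s⟩, hy⟩ := IsLocalizedModule.surj (nonZeroDivisors R) (TensorProduct.mk R K G 1) z
    simp only [TensorProduct.mk_apply] at hy
    have hvy : TensorProduct.mk R K H 1 (v y) = 0 := by
      have := congrArg ((v.restrictScalars R).baseChange K) hy
      rw [LinearMap.map_smul_of_tower, hz, smul_zero, LinearMap.baseChange_tmul] at this
      exact this.symm
    obtain ⟨t, ht⟩ := (IsLocalizedModule.eq_zero_iff (nonZeroDivisors R) (TensorProduct.mk R K H 1)).mp hvy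
    have hmem : (t : R) • y ∈ N := by
      show v ((t : R) • y) = 0
      rw [LinearMap.map_smul_of_tower]; exact ht
    obtain ⟨n, hn⟩ := exists_pow_smul_eq_zero hf κ huκ M hM' hMκ (Submodule.Quotient.mk ⟨_, hmem⟩)
    rw [← Submodule.Quotient.mk_smul, Submodule.Quotient.mk_eq_zero] at hn
    obtain ⟨x, hx⟩ := hn
    have hx' : u x = (f ^ n * t : R) • y := by rw [mul_smul]; exact hx
    set a := algebraMap R K (f ^ n * t * s)
    have ha : a ≠ 0 := hK (mul_ne_zero (mul_ne_zero (pow_ne_zero n hf) (nonZeroDivisors.coe_ne_zero t))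
      (nonZeroDivisors.coe_ne_zero s))
    refine ⟨a⁻¹ • ((1 : K) ⊗ₜ[R] x), ?_⟩
    rw [map_smul, LinearMap.baseChange_tmul, LinearMap.restrictScalars_apply, hx', TensorProduct.tmul_smul,
      ← hy]
    change a⁻¹ • (f ^ n * (t : R)) • (s : R) • z = z
    rw [smul_smul (f ^ n * (t : R)), ← algebraMap_smul K (f ^ n * (t : R) * (s : R)) z, smul_smul,
      inv_mul_cancel₀ ha, one_smul]
  · rintro ⟨w, rfl⟩
    induction w using TensorProduct.induction_on with
    | zero => simp
    | add a b ha hb => rw [map_add, map_add, ha, hb, add_zero]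
    | tmul c x =>
      obtain ⟨n, hn⟩ := hvu x
      obtain ⟨e, he⟩ := (isUnit_iff_ne_zero.mpr (hK (pow_ne_zero n hf))).exists_left_inv
      show c ⊗ₜ[R] v (u x) = (0 : K ⊗[R] H)
      have : c ⊗ₜ[R] v (u x) = (e * c) ⊗ₜ[R] (f ^ n • v (u x)) := by
        rw [TensorProduct.tmul_smul, ← algebraMap_smul K (f ^ n), TensorProduct.smul_tmul', smul_eq_mul,
          ← mul_assoc, mul_comm _ e, he, one_mul]
      rw [this, hn, TensorProduct.tmul_zero]

section Matrix

variable {B : Type u} [CommRing B]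

/-- The map given by a matrix. -/
abbrev matMap {a b : ℕ} (U : Matrix (Fin b) (Fin a) B) : (Fin a → B) →ₗ[B] (Fin b → B) := U.mulVecLin

/-- The map to the cokernel of a matrix. -/
abbrev cokerMap {a b c : ℕ} (V : Matrix (Fin c) (Fin b) B) (W : Matrix (Fin c) (Fin a) B) :
    (Fin b → B) →ₗ[B] (Fin c → B) ⧸ LinearMap.range (matMap W) :=
  (LinearMap.range (matMap W)).mkQ.comp (matMap V)

/-- The locus attached to three matrices. -/
def matLocus (R : Type u) [CommRing R] [Algebra R B] {l m n c : ℕ} (U : Matrix (Fin n) (Fin m) B)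
    (V : Matrix (Fin c) (Fin n) B) (W : Matrix (Fin c) (Fin l) B) : Set (PrimeSpectrum R) :=
  exactLocus ((matMap U).restrictScalars R) ((cokerMap V W).restrictScalars R)

variable {R₀ R B₀ : Type u} [CommRing R₀] [CommRing R] [CommRing B₀] [Algebra R₀ R] [Algebra R₀ B₀] [Algebra R B]

/-- Vectors over a base change. -/
noncomputable def piEquiv (e : R ⊗[R₀] B₀ ≃ₐ[R] B) (n : ℕ) :
    R ⊗[R₀] (Fin n → B₀) ≃ₗ[R] (Fin n → B) :=
  TensorProduct.piRight R₀ R R (fun _ : Fin n => B₀) ≪≫ₗ LinearEquiv.piCongrRight fun _ => e.toLinearEquiv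

theorem piEquiv_tmul (e : R ⊗[R₀] B₀ ≃ₐ[R] B) {n : ℕ} (x : Fin n → B₀) (i : Fin n) :
    piEquiv e n (1 ⊗ₜ x) i = e (1 ⊗ₜ x i) := by
  simp [piEquiv]

theorem matMap_piEquiv (e : R ⊗[R₀] B₀ ≃ₐ[R] B) {a b : ℕ} (U : Matrix (Fin b) (Fin a) B₀) (x : Fin a → B₀) :
    matMap (U.map fun t => e (1 ⊗ₜ t)) (piEquiv e a (1 ⊗ₜ x)) = piEquiv e b (1 ⊗ₜ matMap U x) := by
  funext i
  rw [piEquiv_tmul]
  simp only [Matrix.mulVecLin_apply, Matrix.mulVec, dotProduct, piEquiv_tmul, Matrix.map_apply]
  rw [TensorProduct.tmul_sum, map_sum]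
  exact Finset.sum_congr rfl fun j _ => by rw [← map_mul, Algebra.TensorProduct.tmul_mul_tmul, one_mul]

theorem exact_baseChange_mkQ {R₀ R B₀ M N : Type u} [CommRing R₀] [CommRing R] [CommRing B₀] [Algebra R₀ R]
    [Algebra R₀ B₀] [AddCommGroup M] [Module B₀ M] [Module R₀ M] [IsScalarTower R₀ B₀ M] [AddCommGroup N]
    [Module B₀ N] [Module R₀ N] [IsScalarTower R₀ B₀ N] (f : M →ₗ[B₀] N) :
    Function.Exact ((f.restrictScalars R₀).baseChange R) (((LinearMap.range f).mkQ.restrictScalars R₀).baseChange R) ∧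
      Function.Surjective (((LinearMap.range f).mkQ.restrictScalars R₀).baseChange R) := by
  have hg : Function.Surjective ((LinearMap.range f).mkQ.restrictScalars R₀) :=
    fun m => Submodule.mkQ_surjective _ m
  have hx : Function.Exact (f.restrictScalars R₀) ((LinearMap.range f).mkQ.restrictScalars R₀) :=
    fun y => LinearMap.exact_map_mkQ_range f y
  exact ⟨lTensor_exact R hx hg, LinearMap.lTensor_surjective R hg⟩

theorem matLocus_baseChange (e : R ⊗[R₀] B₀ ≃ₐ[R] B) {l m n c : ℕ} (U : Matrix (Fin n) (Fin m) B₀)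
    (V : Matrix (Fin c) (Fin n) B₀) (W : Matrix (Fin c) (Fin l) B₀) :
    matLocus R (U.map fun t => e (1 ⊗ₜ t)) (V.map fun t => e (1 ⊗ₜ t)) (W.map fun t => e (1 ⊗ₜ t)) =
      PrimeSpectrum.comap (algebraMap R₀ R) ⁻¹' matLocus R₀ U V W := by
  let W' := matMap (W.map fun t => e (1 ⊗ₜ t))
  let W₀ := (matMap W).restrictScalars R₀
  let π₀ := ((LinearMap.range (matMap W)).mkQ).restrictScalars R₀
  obtain ⟨hex, hsurj⟩ := exact_baseChange_mkQ (R := R) (R₀ := R₀) (matMap W)
  have hcomm : (W'.restrictScalars R).comp (piEquiv e l).toLinearMap =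
      (piEquiv e c).toLinearMap.comp (W₀.baseChange R) :=
    LinearMap.ext fun z => by
      induction z using TensorProduct.induction_on with
      | zero => simp
      | add a b ha hb => simp only [map_add, ha, hb]
      | tmul r x =>
        simp only [LinearMap.comp_apply, LinearEquiv.coe_coe, LinearMap.baseChange_tmul]
        rw [show r ⊗ₜ[R₀] x = r • ((1 : R) ⊗ₜ[R₀] x) by rw [TensorProduct.smul_tmul', smul_eq_mul, mul_one],
          show r ⊗ₜ[R₀] W₀ x = r • ((1 : R) ⊗ₜ[R₀] W₀ x) by rw [TensorProduct.smul_tmul', smul_eq_mul, mul_one],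
          map_smul, map_smul, map_smul]
        exact congrArg (r • ·) (matMap_piEquiv e W x)
  have hmap : (LinearMap.range (W₀.baseChange R)).map (piEquiv e c).toLinearMap =
      (LinearMap.range W').restrictScalars R := by
    rw [← LinearMap.range_comp, ← hcomm, LinearMap.range_comp, LinearEquiv.range, Submodule.map_top]
    exact (LinearMap.range_restrictScalars W').trans rfl
  let eC : R ⊗[R₀] ((Fin c → B₀) ⧸ LinearMap.range (matMap W)) ≃ₗ[R] ((Fin c → B) ⧸ LinearMap.range W') :=
    (hex.linearEquivOfSurjective hsurj).symm ≪≫ₗ Submodule.Quotient.equiv _ _ (piEquiv e c) hmap ≪≫ₗ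
      Submodule.Quotient.restrictScalarsEquiv R (LinearMap.range W')
  refine exactLocus_baseChange _ _ _ _ (piEquiv e m) (piEquiv e n) eC (matMap_piEquiv e U) fun x => ?_
  show Submodule.Quotient.mk (matMap (V.map fun t => e (1 ⊗ₜ t)) (piEquiv e n (1 ⊗ₜ x))) = eC (1 ⊗ₜ _)
  rw [matMap_piEquiv]
  have h1 : (hex.linearEquivOfSurjective hsurj) (Submodule.Quotient.mk ((1 : R) ⊗ₜ[R₀] matMap V x)) =
      (1 : R) ⊗ₜ[R₀] ((cokerMap V W).restrictScalars R₀ x) := rfl
  simp only [eC, LinearEquiv.trans_apply]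
  rw [← h1, LinearEquiv.symm_apply_apply]
  rfl

end Matrix

open Topology in
theorem isConstructible_matLocus_noetherian {R B : Type u} [CommRing R] [IsNoetherianRing R] [CommRing B]
    [Algebra R B] [Algebra.FiniteType R B] {l m n c : ℕ} (U : Matrix (Fin n) (Fin m) B)
    (V : Matrix (Fin c) (Fin n) B) (W : Matrix (Fin c) (Fin l) B) :
    IsConstructible (matLocus R U V W) := by
  refine Cons62.isConstructible_of_forall_prime fun p => ?_
  let R' := R ⧸ p.asIdeal
  let B' := R' ⊗[R] B
  haveI : Algebra.FinitePresentation R' B' := Algebra.FinitePresentation.of_finiteType.mp inferInstance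
  haveI : IsNoetherianRing B' := Algebra.FiniteType.isNoetherianRing R' B'
  let e : R' ⊗[R] B ≃ₐ[R'] B' := AlgEquiv.refl
  let U' := U.map fun t => e (1 ⊗ₜ t)
  let V' := V.map fun t => e (1 ⊗ₜ t)
  let W' := W.map fun t => e (1 ⊗ₜ t)
  have hloc := matLocus_baseChange e U V W
  haveI : Module.FinitePresentation B' ((Fin c → B') ⧸ LinearMap.range (matMap W')) :=
    Module.finitePresentation_of_finite B' _
  obtain ⟨f, hf, hconst⟩ : ∃ f : R', f ≠ 0 ∧ ((∀ q : PrimeSpectrum R', f ∉ q.asIdeal → q ∈ matLocus R' U' V' W') ∨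
      ∀ q : PrimeSpectrum R', f ∉ q.asIdeal → q ∉ matLocus R' U' V' W') := by
    by_cases hgen : Function.Exact (((matMap U').restrictScalars R').baseChange (FractionRing R'))
        (((cokerMap V' W').restrictScalars R').baseChange (FractionRing R'))
    · obtain ⟨f, hf, h⟩ := S4801.result (R := R') (matMap U') (cokerMap V' W') hgen
      exact ⟨f, hf, .inl h⟩
    · obtain ⟨f, hf, h⟩ := exists_forall_not_exact (R := R') (matMap U') (cokerMap V' W') hgen
      exact ⟨f, hf, .inr h⟩
  obtain ⟨h, rfl⟩ := Ideal.Quotient.mk_surjective f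
  refine ⟨h, fun hp => hf (Ideal.Quotient.eq_zero_iff_mem.mpr hp), ?_⟩
  have key : ∀ x : PrimeSpectrum R, x ∈ PrimeSpectrum.zeroLocus (p.asIdeal : Set R) → ∃ y : PrimeSpectrum R',
      PrimeSpectrum.comap (algebraMap R R') y = x ∧ (x ∈ matLocus R U V W ↔ y ∈ matLocus R' U' V' W') := by
    intro x hx
    obtain ⟨y, rfl⟩ : x ∈ Set.range (PrimeSpectrum.comap (Ideal.Quotient.mk p.asIdeal)) := by
      rw [range_comap_of_surjective _ _ Ideal.Quotient.mk_surjective, Ideal.mk_ker]; exact hx
    exact ⟨y, rfl, by rw [show U' = U.map _ from rfl, hloc]; rfl⟩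
  rcases hconst with hin | hout
  · have : PrimeSpectrum.zeroLocus (p.asIdeal : Set R) ∩ PrimeSpectrum.basicOpen h ∩ matLocus R U V W =
        PrimeSpectrum.zeroLocus (p.asIdeal : Set R) ∩ PrimeSpectrum.basicOpen h := by
      refine Set.inter_eq_left.mpr fun x hx => ?_
      obtain ⟨y, rfl, hy⟩ := key x hx.1
      exact hy.mpr (hin y hx.2)
    rw [this]
    have hr : ∀ s : Set (PrimeSpectrum R), IsRetrocompact s :=
      fun s U _ _ => TopologicalSpace.NoetherianSpace.isCompact _
    have hz := (PrimeSpectrum.isClosed_zeroLocus (p.asIdeal : Set R)).isOpen_compl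
    have hzc := ((hr _).isConstructible hz).compl
    rw [compl_compl] at hzc
    exact hzc.inter ((hr _).isConstructible (PrimeSpectrum.basicOpen h).2)
  · have : PrimeSpectrum.zeroLocus (p.asIdeal : Set R) ∩ PrimeSpectrum.basicOpen h ∩ matLocus R U V W = ∅ := by
      refine Set.eq_empty_iff_forall_notMem.mpr fun x hx => ?_
      obtain ⟨y, rfl, hy⟩ := key x hx.1.1
      exact hout y hx.1.2 (hy.mp hx.2)
    rw [this]
    exact IsConstructible.empty

open Topology in
theorem isConstructible_matLocus {R B : Type u} [CommRing R] [CommRing B] [Algebra R B]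
    [Algebra.FinitePresentation R B] {l m n c : ℕ} (U : Matrix (Fin n) (Fin m) B)
    (V : Matrix (Fin c) (Fin n) B) (W : Matrix (Fin c) (Fin l) B) :
    IsConstructible (matLocus R U V W) := by
  classical
  let t : Set B := Set.range (fun ij : Fin n × Fin m => U ij.1 ij.2) ∪
    Set.range (fun ij : Fin c × Fin n => V ij.1 ij.2) ∪ Set.range (fun ij : Fin c × Fin l => W ij.1 ij.2)
  have ht : t.Finite := ((Set.finite_range _).union (Set.finite_range _)).union (Set.finite_range _)
  obtain ⟨A₀, B₀, _, _, e, hN, hfp, hsub⟩ := Cons62.exists_model (A := R) ht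
  choose U₀ hU₀ using fun i j => hsub (a := U i j) (Or.inl (Or.inl ⟨(i, j), rfl⟩))
  choose V₀ hV₀ using fun i j => hsub (a := V i j) (Or.inl (Or.inr ⟨(i, j), rfl⟩))
  choose W₀ hW₀ using fun i j => hsub (a := W i j) (Or.inr ⟨(i, j), rfl⟩)
  have hloc := matLocus_baseChange e (Matrix.of U₀) (Matrix.of V₀) (Matrix.of W₀)
  have hUeq : (Matrix.of U₀).map (fun t => e (1 ⊗ₜ t)) = U := Matrix.ext fun i j => hU₀ i j
  have hVeq : (Matrix.of V₀).map (fun t => e (1 ⊗ₜ t)) = V := Matrix.ext fun i j => hV₀ i j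
  have hWeq : (Matrix.of W₀).map (fun t => e (1 ⊗ₜ t)) = W := Matrix.ext fun i j => hW₀ i j
  rw [hUeq, hVeq, hWeq] at hloc
  rw [hloc]
  obtain ⟨s, hs⟩ := PrimeSpectrum.exists_constructibleSetData_iff.mpr
    (isConstructible_matLocus_noetherian (R := A₀) (Matrix.of U₀) (Matrix.of V₀) (Matrix.of W₀))
  rw [← hs, ← PrimeSpectrum.ConstructibleSetData.toSet_map]
  exact PrimeSpectrum.ConstructibleSetData.isConstructible_toSet _

theorem baseChange_mem_range {R M N P κ : Type u} [CommRing R] [CommRing κ] [Algebra R κ] [AddCommGroup M]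
    [Module R M] [AddCommGroup N] [Module R N] [AddCommGroup P] [Module R P] (f : M →ₗ[R] P) (g : N →ₗ[R] P)
    (h : ∀ x, ∃ y, g y = f x) (z : κ ⊗[R] M) : ∃ w, g.baseChange κ w = f.baseChange κ z := by
  induction z using TensorProduct.induction_on with
  | zero => exact ⟨0, by simp⟩
  | add a b ha hb =>
    obtain ⟨a', ha⟩ := ha; obtain ⟨b', hb⟩ := hb
    exact ⟨a' + b', by rw [map_add, map_add, ha, hb]⟩
  | tmul c x =>
    obtain ⟨y, hy⟩ := h x
    exact ⟨c ⊗ₜ y, by simp [hy]⟩

/-- The locus of exactness of finitely presented modules is the locus of three matrices. -/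
theorem exists_matLocus_eq {R B : Type u} [CommRing R] [CommRing B] [Algebra R B]
    {F G H : Type u} [AddCommGroup F] [Module B F] [Module R F] [IsScalarTower R B F] [Module.FinitePresentation B F]
    [AddCommGroup G] [Module B G] [Module R G] [IsScalarTower R B G] [Module.FinitePresentation B G]
    [AddCommGroup H] [Module B H] [Module R H] [IsScalarTower R B H] [Module.FinitePresentation B H]
    (u : F →ₗ[B] G) (v : G →ₗ[B] H) :
    ∃ (l m n c : ℕ) (U : Matrix (Fin n) (Fin m) B) (V : Matrix (Fin c) (Fin n) B) (W : Matrix (Fin c) (Fin l) B),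
      exactLocus (u.restrictScalars R) (v.restrictScalars R) = matLocus R U V W := by
  classical
  obtain ⟨n, KG, eG, hKG⟩ := Module.FinitePresentation.exists_fin B G
  obtain ⟨c, KH, eH, hKH⟩ := Module.FinitePresentation.exists_fin B H
  let πG : (Fin n → B) →ₗ[B] G := eG.symm.toLinearMap.comp KG.mkQ
  have hπG : Function.Surjective πG := eG.symm.surjective.comp KG.mkQ_surjective
  have hkerG : LinearMap.ker πG = KG := by
    rw [LinearEquiv.ker_comp]; exact KG.ker_mkQ
  obtain ⟨m, a, ha⟩ := Submodule.fg_iff_exists_fin_generating_family.mp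
    (show ((LinearMap.range u).comap πG).FG from Submodule.fg_of_fg_map_of_fg_inf_ker πG
      (by rw [Submodule.map_comap_eq_of_surjective hπG]; exact (Module.Finite.fg_top.map u |> fun h => by
            rwa [Submodule.map_top] at h))
      (by rw [inf_eq_right.mpr (LinearMap.ker_le_comap πG), hkerG]; exact hKG))
  obtain ⟨l, b, hb⟩ := Submodule.fg_iff_exists_fin_generating_family.mp hKH
  obtain ⟨Ψ, hΨ⟩ := Module.projective_lifting_property KH.mkQ (eH.toLinearMap.comp (v.comp πG)) KH.mkQ_surjective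
  let U : Matrix (Fin n) (Fin m) B := Matrix.of fun i j => a j i
  let V : Matrix (Fin c) (Fin n) B := LinearMap.toMatrix' Ψ
  let W : Matrix (Fin c) (Fin l) B := Matrix.of fun i j => b j i
  have hU : LinearMap.range (matMap U) = (LinearMap.range u).comap πG := by
    rw [Matrix.range_mulVecLin]; exact ha
  have hW : LinearMap.range (matMap W) = KH := by
    rw [Matrix.range_mulVecLin]; exact hb
  have hV : matMap V = Ψ := by
    rw [matMap, ← Matrix.toLin'_apply', Matrix.toLin'_toMatrix']
  refine ⟨l, m, n, c, U, V, W, Set.ext fun p => ?_⟩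
  let κ := p.asIdeal.ResidueField
  let P := (πG.restrictScalars R).baseChange κ
  let Uκ := ((matMap U).restrictScalars R).baseChange κ
  let vκ := (v.restrictScalars R).baseChange κ
  let uκ := (u.restrictScalars R).baseChange κ
  let θ : H ≃ₗ[B] (Fin c → B) ⧸ LinearMap.range (matMap W) := eH ≪≫ₗ Submodule.quotEquivOfEq _ _ hW.symm
  have hθ : (cokerMap V W) = θ.toLinearMap.comp (v.comp πG) := LinearMap.ext fun x => by
    show Submodule.Quotient.mk (matMap V x) = θ _
    rw [hV]
    show _ = Submodule.quotEquivOfEq _ _ hW.symm (eH (v (πG x)))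
    rw [show eH (v (πG x)) = KH.mkQ (Ψ x) from (LinearMap.congr_fun hΨ x).symm]
    rfl
  have hC : ∀ z, ((cokerMap V W).restrictScalars R).baseChange κ z =
      (θ.restrictScalars R).toLinearMap.baseChange κ (vκ (P z)) := fun z => by
    rw [hθ]
    induction z using TensorProduct.induction_on with
    | zero => simp
    | add a b ha hb => simp only [map_add, ha, hb]
    | tmul r x => rfl
  have hθinj : Function.Injective ((θ.restrictScalars R).toLinearMap.baseChange κ) :=
    (LinearEquiv.baseChange R κ H _ (θ.restrictScalars R)).injective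
  have hP : Function.Surjective P := LinearMap.lTensor_surjective κ (show Function.Surjective (πG.restrictScalars R) from hπG)
  have hker : ∀ z, P z = 0 → ∃ w, Uκ w = z := fun z hz => by
    have hx : Function.Exact ((KG.restrictScalars R).subtype) (πG.restrictScalars R) := fun y => by
      refine ⟨fun hy => ⟨⟨y, hkerG ▸ hy⟩, rfl⟩, ?_⟩
      rintro ⟨y, rfl⟩
      exact LinearMap.mem_ker.mp (show (y : Fin n → B) ∈ LinearMap.ker πG from by rw [hkerG]; exact y.2)
    obtain ⟨k, rfl⟩ := (lTensor_exact κ hx hπG z).mp hz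
    refine baseChange_mem_range _ _ (fun y => ?_) k
    have : (y : Fin n → B) ∈ LinearMap.range (matMap U) := by
      rw [hU, Submodule.mem_comap, show πG y = 0 from LinearMap.mem_ker.mp (by rw [hkerG]; exact y.2)]
      exact zero_mem _
    exact this
  have hUu : ∀ w, ∃ z, uκ z = P (Uκ w) := fun w => by
    have := baseChange_mem_range (κ := κ) ((πG.comp (matMap U)).restrictScalars R) (u.restrictScalars R)
      (fun x => show πG (matMap U x) ∈ LinearMap.range u from (hU ▸ LinearMap.mem_range_self (matMap U) x :)) w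
    rwa [show ((πG.comp (matMap U)).restrictScalars R) = (πG.restrictScalars R).comp ((matMap U).restrictScalars R)
      from rfl, LinearMap.baseChange_comp] at this
  have huU : ∀ z, ∃ w, P (Uκ w) = uκ z := fun z => by
    have := baseChange_mem_range (κ := κ) (u.restrictScalars R) ((πG.comp (matMap U)).restrictScalars R)
      (fun x => by
        obtain ⟨y, hy⟩ := hπG (u x)
        have hmem : y ∈ LinearMap.range (matMap U) := by rw [hU]; exact ⟨x, hy.symm⟩
        obtain ⟨y', rfl⟩ := hmem
        exact ⟨y', hy⟩) z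
    rwa [show ((πG.comp (matMap U)).restrictScalars R) = (πG.restrictScalars R).comp ((matMap U).restrictScalars R)
      from rfl, LinearMap.baseChange_comp] at this
  show Function.Exact uκ vκ ↔ Function.Exact Uκ (((cokerMap V W).restrictScalars R).baseChange κ)
  constructor
  · intro hex z
    rw [hC, map_eq_zero_iff _ hθinj]
    refine ⟨fun hz => ?_, ?_⟩
    · obtain ⟨x, hx⟩ := (hex _).mp hz
      obtain ⟨w, hw⟩ := huU x
      obtain ⟨w', hw'⟩ := hker (z - Uκ w) (by rw [map_sub, hw, hx, sub_self])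
      exact ⟨w' + w, by rw [map_add, hw', sub_add_cancel]⟩
    · rintro ⟨w, rfl⟩
      obtain ⟨x, hx⟩ := hUu w
      rw [← hx]; exact hex.apply_apply_eq_zero x
  · intro hex y
    refine ⟨fun hy => ?_, ?_⟩
    · obtain ⟨z, rfl⟩ := hP y
      obtain ⟨w, rfl⟩ := (hex z).mp (by rw [hC, hy, map_zero])
      exact hUu w
    · rintro ⟨x, rfl⟩
      obtain ⟨w, hw⟩ := huU x
      rw [← hw]
      exact hθinj (by rw [← hC, hex.apply_apply_eq_zero, map_zero])

end Groth.Agent.FBase64.FibreExact
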