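import Groth.Agent.FlatMor68.FibreFree
import Groth.Agent.S4698
import Groth.Agent.FBase64.AssFibre.DimField
import Groth.Agent.ConsPts12.Range

/-! The locus of locally free fibres. -/

set_option autoImplicit false
set_option linter.style.haveILetI false
set_option backward.isDefEq.respectTransparency.types false
universe u

open CategoryTheory CategoryTheory.Limits AlgebraicGeometry TopologicalSpace Topology TensorProduct
open Groth.Agent.FlatMor68.FibreFree Groth.Agent.Props58.LocFree Groth.Agent.QC70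

namespace Groth.Agent.FBase64.FibreLocFree

/-- The stalk is free with rank in a given set. -/
def FreeAt (N : Set ℕ) {X : Scheme.{u}} (F : X.Modules) (x : X) : Prop :=
  Module.Free (X.presheaf.stalk x) (F.presheaf.stalk x) ∧
    Module.finrank (X.presheaf.stalk x) (F.presheaf.stalk x) ∈ N

variable {N : Set ℕ}

theorem freeAt_congr {X : Scheme.{u}} (F : X.Modules) {x y : X} (h : x = y) (hx : FreeAt N F x) : FreeAt N F y :=
  h ▸ hx

theorem freeAt_pullback {X Y : Scheme.{u}} (h : X ⟶ Y) (G : Y.Modules) [G.IsQuasicoherent] (x : X)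
    (hG : Module.Free (Y.presheaf.stalk (h x)) (G.presheaf.stalk (h x))) :
    FreeAt N ((Scheme.Modules.pullback h).obj G) x ↔ FreeAt N G (h x) := by
  obtain ⟨E⟩ := FlatMor68.PullbackStalk.nonempty_stalkPullbackEquiv h G x
  letI := (h.stalkMap x).hom.toAlgebra
  haveI := hG
  have e := E.finrank_eq
  rw [Module.finrank_baseChange] at e
  exact ⟨fun ⟨_, hn⟩ => ⟨hG, e ▸ hn⟩, fun ⟨_, hn⟩ => ⟨free_pullback h G x hG, e.symm ▸ hn⟩⟩

theorem freeAt_iff_of_iso {X : Scheme.{u}} {F G : X.Modules} (e : F ≅ G) (x : X) :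
    FreeAt N F x ↔ FreeAt N G x := by
  unfold FreeAt
  rw [free_stalk_iff_of_iso e x, (stalkEquivOfIso e x).finrank_eq]

theorem finrank_eq_of_stalkBasis {X : Scheme.{u}} {M : X.Modules} {U : X.Opens} {n : ℕ} {s : Fin n → Γ(M, U)}
    (hs : StalkBasis s) (y : X) (hy : y ∈ U) :
    Module.finrank (X.presheaf.stalk y) (M.presheaf.stalk y) = n := by
  let l := Fintype.linearCombination (X.presheaf.stalk y) fun i => germM M U y hy (s i)
  have hl : ⇑l = germComb s y hy := funext fun c => by rw [Fintype.linearCombination_apply]; rfl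
  have e := (LinearEquiv.ofBijective l (hl ▸ hs y hy)).finrank_eq
  rwa [Module.finrank_fin_fun, eq_comm] at e

theorem isOpen_freeAt {X : Scheme.{u}} [IsLocallyNoetherian X] {F : X.Modules} (hF : Coh.IsCoh F) :
    IsOpen {x | FreeAt N F x} := by
  refine isOpen_iff_forall_mem_open.mpr fun x ⟨hx, hn⟩ => ?_
  obtain ⟨W, n, hxW, ⟨e⟩⟩ := Div89.exists_nhd_free_of_free_stalk hF hx
  obtain ⟨s, hs⟩ := exists_stalkBasis_of_iso e
  refine ⟨W, fun y hy => ⟨hs.free_stalk y hy, ?_⟩, W.2, hxW⟩
  rwa [finrank_eq_of_stalkBasis hs y hy, ← finrank_eq_of_stalkBasis hs x hxW]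

/-- All stalks are free with ranks in the set. -/
theorem isConsMod_freeAt (N : Set ℕ) :
    ConsProp.IsConsMod.{u} (fun Y _ _ F => ∀ y : Y, FreeAt N F y) := by
  refine ⟨?_, ?_⟩
  · intro Y Y' T T' g g' e h _ _ _ _ _ _ hsq F F' hF iso
    obtain ⟨t⟩ : Nonempty T := inferInstance
    obtain ⟨t'⟩ : Nonempty T' := inferInstance
    haveI := ConsProp93.isIso_fromSpecResidueField T t
    haveI := ConsProp93.isIso_fromSpecResidueField T' t'
    haveI : IsLocallyNoetherian T := isLocallyNoetherian_of_isOpenImmersion (inv (T.fromSpecResidueField t))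
    haveI := LocallyOfFiniteType.isLocallyNoetherian g
    haveI : F.IsQuasicoherent := hF.1
    haveI := Div89.isFP_of_isCoh hF
    haveI : Flat h := by
      let φ := Spec.preimage (T'.fromSpecResidueField t' ≫ h ≫ inv (T.fromSpecResidueField t))
      have hφ : h = inv (T'.fromSpecResidueField t') ≫ Spec.map φ ≫ T.fromSpecResidueField t := by
        simp [φ, Spec.map_preimage]
      haveI : Flat (Spec.map φ) := by
        rw [HasRingHomProperty.Spec_iff (P := @Flat)]
        letI : Algebra (T.residueField t) (T'.residueField t') := φ.hom.toAlgebra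
        exact RingHom.flat_algebraMap_iff.mpr inferInstance
      rw [hφ]; infer_instance
    haveI : Surjective h := ConsProp93.surjective_of_subsingleton h
    haveI : Flat e := MorphismProperty.of_isPullback hsq.flip ‹_›
    haveI : Surjective e := MorphismProperty.of_isPullback hsq.flip ‹_›
    constructor
    · intro hall z
      rw [freeAt_iff_of_iso iso, freeAt_pullback e F z (hall _).1]
      exact hall _
    · intro hall y
      obtain ⟨z, rfl⟩ := e.surjective y
      have h1 := (freeAt_iff_of_iso iso z).mp (hall z)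
      exact (freeAt_pullback e F z (free_of_free_pullback e F z (Flat.stalkMap e z) h1.1)).mp h1
  intro X S f _ _ _ _ F hF
  haveI := LocallyOfFiniteType.isLocallyNoetherian f
  haveI : CompactSpace X := QuasiCompact.compactSpace_of_compactSpace f
  haveI : IsNoetherian X := { }
  haveI : F.IsQuasicoherent := hF.1
  haveI := Div89.isFP_of_isCoh hF
  haveI : LocallyOfFinitePresentation f := inferInstance
  obtain ⟨U, hUne, hU⟩ := Groth.Agent.S4698.result f F hF
  have hηU : genericPoint S ∈ U := by
    obtain ⟨s, hs⟩ := hUne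
    exact (genericPoint_specializes s).mem_open U.2 hs
  have key : ∀ s ∈ U, ((∀ z : f.fiber s, FreeAt N ((Scheme.Modules.pullback (f.fiberι s)).obj F) z) ↔
      s ∉ f '' {x | FreeAt N F x}ᶜ) := by
    intro s hs
    constructor
    · rintro hall ⟨x, hx, rfl⟩
      have h1 := hall (f.asFiber x)
      have hfl : FlatMod.IsFlatOverAt f F (f.fiberι (f x) (f.asFiber x)) := hU _ (by
        rw [f.fiberι_asFiber]; exact hs)
      have hfree := free_of_free_fiber f F (f x) (f.asFiber x) hfl h1.1
      exact hx (freeAt_congr F (f.fiberι_asFiber x) ((freeAt_pullback _ F _ hfree).mp h1))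
    · intro hns z
      have hx : FreeAt N F (f.fiberι s z) := by
        by_contra hx
        exact hns ⟨_, hx, AssTensor.fiberι_over f s z⟩
      exact (freeAt_pullback _ F z hx.1).mpr hx
  have hA : IsLocallyConstructible (f '' {x | FreeAt N F x}ᶜ) :=
    f.isLocallyConstructible_image
      (ConsProp93.isLocallyConstructible_of_isClosed (isOpen_freeAt hF).isClosed_compl)
  by_cases hη : genericPoint S ∈ f '' {x | FreeAt N F x}ᶜ
  · have hi : genericPoint S ∈ interior (f '' {x | FreeAt N F x}ᶜ) :=
      (ConsPts12.mem_interior_iff (ConsPts12.isLocallyConstructible_iff.mp hA).1 _).mpr fun w hw =>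
        (hw.antisymm (genericPoint_specializes w)).eq ▸ hη
    refine .inr ⟨_, interior_maximal (t := interior (f '' {x | FreeAt N F x}ᶜ) ∩ U)
      (fun s hs h => (key s hs.2).mp h (interior_subset hs.1)) (isOpen_interior.inter U.2) ⟨hi, hηU⟩⟩
  · have hA' := Cons62.isLocallyConstructible_compl hA
    have hi : genericPoint S ∈ interior (f '' {x | FreeAt N F x}ᶜ)ᶜ :=
      (ConsPts12.mem_interior_iff (ConsPts12.isLocallyConstructible_iff.mp hA').1 _).mpr fun w hw =>
        (hw.antisymm (genericPoint_specializes w)).eq ▸ hη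
    exact .inl ⟨_, interior_maximal (t := interior (f '' {x | FreeAt N F x}ᶜ)ᶜ ∩ U)
      (fun s hs => (key s hs.2).mpr (interior_subset hs.1)) (isOpen_interior.inter U.2) ⟨hi, hηU⟩⟩

theorem isFinLocFree_iff_freeAt {X : Scheme.{u}} {F : X.Modules} (hF : CohB1.IsFP F) :
    FlatMod.IsFinLocFree F ↔ ∀ x : X, FreeAt Set.univ F x :=
  ⟨fun h x => ⟨free_stalk_of_isFinLocFree h x, trivial⟩, fun h => isFinLocFree_of_isFP hF fun x => (h x).1⟩

theorem isFinLocFreeOfRank_iff_freeAt {X : Scheme.{u}} [IsLocallyNoetherian X] {F : X.Modules} (hF : Coh.IsCoh F)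
    (n : ℕ) : FlatMod.IsFinLocFreeOfRank n F ↔ ∀ x : X, FreeAt {n} F x := by
  constructor
  · intro h x
    obtain ⟨U, hx, ⟨e⟩⟩ := h x
    obtain ⟨s, hs⟩ := exists_stalkBasis_of_iso e
    exact ⟨hs.free_stalk x hx, finrank_eq_of_stalkBasis hs x hx⟩
  · intro h x
    obtain ⟨W, m, hxW, ⟨e⟩⟩ := Div89.exists_nhd_free_of_free_stalk hF (h x).1
    obtain ⟨s, hs⟩ := exists_stalkBasis_of_iso e
    obtain rfl : m = n := (finrank_eq_of_stalkBasis hs x hxW).symm.trans (h x).2
    exact ⟨W, hxW, ⟨e⟩⟩

end Groth.Agent.FBase64.FibreLocFree
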