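import Groth.Agent.FlatMor66.BCStalk
import Groth.Agent.FlatMor68.FibreFree
import Groth.Agent.S0392
import Groth.Agent.S4698
import Groth.Agent.Open62.FlatLocus
import Groth.Agent.FBase64.Cons.FibreLocFree

/-! The fibre criterion of flatness for modules on schemes, and the spreading of non-flatness. -/

set_option autoImplicit false
set_option maxHeartbeats 1000000
set_option linter.style.haveILetI false
set_option backward.isDefEq.respectTransparency.types false
universe u

open CategoryTheory CategoryTheory.Limits AlgebraicGeometry TopologicalSpace Topology TensorProduct IsLocalRing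

namespace Groth.Agent.FBase64.FibreFlat

theorem flat_of_flat_quot_local {R S S' M : Type u} [CommRing R] [CommRing S] [CommRing S'] [IsLocalRing R]
    [IsLocalRing S] [IsLocalRing S'] [IsNoetherianRing R] [IsNoetherianRing S] [IsNoetherianRing S']
    [Algebra R S] [Algebra S S'] [Algebra R S'] [IsScalarTower R S S']
    [IsLocalHom (algebraMap R S)] [IsLocalHom (algebraMap S S')]
    [AddCommGroup M] [Module S' M] [Module S M] [Module R M] [IsScalarTower S S' M] [IsScalarTower R S M]
    [Module.Finite S' M] [Module.Flat R M]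
    {E C N : Type u} [CommRing E] [CommRing C] [AddCommGroup N] [Module C N] [Module E N]
    [Algebra S E] [Algebra S' C] [Algebra S C] [IsScalarTower S S' C] [Module S N] [IsScalarTower S E N]
    [IsScalarTower S C N] [Module.Flat E N]
    (hE : Function.Surjective (algebraMap S E))
    (hEk : RingHom.ker (algebraMap S E) = (maximalIdeal R).map (algebraMap R S))
    (hC : Function.Surjective (algebraMap S' C))
    (hCk : RingHom.ker (algebraMap S' C) = (maximalIdeal R).map (algebraMap R S'))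
    (e : N ≃ₗ[C] C ⊗[S'] M) : Module.Flat S M := by
  rcases subsingleton_or_nontrivial M with hM | hM
  · infer_instance
  let J := (maximalIdeal R).map (algebraMap R S)
  let J' := (maximalIdeal R).map (algebraMap R S')
  let eE : (S ⧸ J) ≃ₐ[S] E := (Ideal.quotientEquivAlgOfEq S hEk.symm).trans
    (Ideal.quotientKerAlgEquivOfSurjective (f := Algebra.ofId S E) hE)
  let eC : (S' ⧸ J') ≃ₐ[S'] C := (Ideal.quotientEquivAlgOfEq S' hCk.symm).trans
    (Ideal.quotientKerAlgEquivOfSurjective (f := Algebra.ofId S' C) hC)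
  have hJ : J.map (algebraMap S S') = J' := by
    simp only [J, J', Ideal.map_map, ← IsScalarTower.algebraMap_eq]
  have heq : (J' • (⊤ : Submodule S' M)).restrictScalars S = J • (⊤ : Submodule S M) := by
    rw [← hJ, Ideal.smul_restrictScalars, Submodule.restrictScalars_top]
  let e₁ : (S ⧸ J) ⊗[S] M ≃ₗ[S] (M ⧸ J' • (⊤ : Submodule S' M)) :=
    TensorProduct.quotTensorEquivQuotSMul M J ≪≫ₗ Submodule.quotEquivOfEq _ _ heq.symm
  let e₂ : (M ⧸ J' • (⊤ : Submodule S' M)) ≃ₗ[S'] C ⊗[S'] M :=
    (TensorProduct.quotTensorEquivQuotSMul M J').symm ≪≫ₗ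
      TensorProduct.congr eC.toLinearEquiv (LinearEquiv.refl S' M)
  let F₁ : (S ⧸ J) ⊗[S] M ≃ₗ[S] N :=
    e₁ ≪≫ₗ e₂.restrictScalars S ≪≫ₗ (e.symm.restrictScalars S)
  letI : Algebra (S ⧸ J) E := eE.toAlgHom.toRingHom.toAlgebra
  letI : Module (S ⧸ J) N := Module.compHom N (algebraMap (S ⧸ J) E)
  haveI : IsScalarTower (S ⧸ J) E N := .of_algebraMap_smul fun _ _ => rfl
  haveI : Module.Flat (S ⧸ J) E := RingHom.Flat.of_bijective (f := algebraMap (S ⧸ J) E) eE.bijective
  haveI : Module.Flat (S ⧸ J) N := Module.Flat.trans _ E N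
  let F₂ : (S ⧸ J) ⊗[S] M ≃ₗ[S ⧸ J] N :=
    { F₁.toAddEquiv with
      map_smul' := fun c x => by
        obtain ⟨c, rfl⟩ := Ideal.Quotient.mk_surjective c
        show F₁ (c • x) = eE (Ideal.Quotient.mk J c) • F₁ x
        rw [map_smul]
        show c • F₁ x = algebraMap S E c • F₁ x
        rw [algebraMap_smul] }
  exact (S0392.result (R := R) (S := S) (S' := S') (M := M) (Module.Flat.of_linearEquiv F₂)).2

variable {X Y S : Scheme.{u}}

theorem stalkCongr_ker (h : Y ⟶ S) (s : S) (w : h.fiber s) (y : Y) (hy : h.fiberι s w = y) :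
    RingHom.ker ((Y.presheaf.stalkCongr (.of_eq hy.symm)).hom ≫ (h.fiberι s).stalkMap w).hom =
      (maximalIdeal (S.presheaf.stalk (h y))).map (h.stalkMap y).hom := by
  subst hy
  rw [← FlatMor68.FibreStalk.ker_fiberι_stalkMap h s w]
  simp [TopCat.Presheaf.stalkCongr_hom]

theorem stalkCongr_surjective (h : Y ⟶ S) (s : S) (w : h.fiber s) (y : Y) (hy : h.fiberι s w = y) :
    Function.Surjective ((Y.presheaf.stalkCongr (.of_eq hy.symm)).hom ≫ (h.fiberι s).stalkMap w).hom := by
  rw [CommRingCat.hom_comp]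
  exact (FlatMor68.FibreStalk.fiberι_stalkMap_surjective h s w).comp
    (ConcreteCategory.bijective_of_isIso _).2

/-- The morphism induced on the fibres. -/
noncomputable abbrev fibreMap (g : X ⟶ Y) (h : Y ⟶ S) (s : S) : (g ≫ h).fiber s ⟶ h.fiber s :=
  pullback.lift (pullback.fst (g ≫ h) (S.fromSpecResidueField s) ≫ g)
    (pullback.snd (g ≫ h) (S.fromSpecResidueField s)) ((Category.assoc _ _ _).trans pullback.condition)

theorem fibreMap_fst (g : X ⟶ Y) (h : Y ⟶ S) (s : S) :
    fibreMap g h s ≫ h.fiberι s = (g ≫ h).fiberι s ≫ g := pullback.lift_fst _ _ _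

theorem isPullback_fibreMap (g : X ⟶ Y) (h : Y ⟶ S) (s : S) :
    IsPullback ((g ≫ h).fiberι s) (fibreMap g h s) g (h.fiberι s) := by
  refine IsPullback.of_bot ?_ (fibreMap_fst g h s).symm (IsPullback.of_hasPullback h (S.fromSpecResidueField s))
  have : fibreMap g h s ≫ pullback.snd h (S.fromSpecResidueField s) =
      pullback.snd (g ≫ h) (S.fromSpecResidueField s) := pullback.lift_snd _ _ _
  rw [this]
  exact IsPullback.of_hasPullback (g ≫ h) (S.fromSpecResidueField s)

theorem isFlatOverAt_of_fibre [IsLocallyNoetherian X] [IsLocallyNoetherian Y] [IsLocallyNoetherian S]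
    (g : X ⟶ Y) (h : Y ⟶ S) (F : X.Modules) [F.IsQuasicoherent] [CohB1.IsFP F] (s : S) (z : (g ≫ h).fiber s)
    (hfl : FlatMod.IsFlatOverAt (g ≫ h) F ((g ≫ h).fiberι s z))
    (hfib : FlatMod.IsFlatOverAt (fibreMap g h s) ((Scheme.Modules.pullback ((g ≫ h).fiberι s)).obj F) z) :
    FlatMod.IsFlatOverAt g F ((g ≫ h).fiberι s z) := by
  let ιX := (g ≫ h).fiberι s
  let ιY := h.fiberι s
  let gs := fibreMap g h s
  let x := ιX z
  let w := gs z
  have hy : ιY w = g x := by
    show (h.fiberι s) (fibreMap g h s z) = g ((g ≫ h).fiberι s z)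
    rw [← Scheme.Hom.comp_apply, fibreMap_fst, Scheme.Hom.comp_apply]
  let φ := (Y.presheaf.stalkCongr (.of_eq hy.symm)).hom ≫ ιY.stalkMap w
  have hcomm : φ ≫ gs.stalkMap z = g.stalkMap x ≫ ιX.stalkMap z := by
    have e := Scheme.Hom.stalkMap_congr_hom _ _ (fibreMap_fst g h s).symm z
    rw [Scheme.Hom.stalkMap_comp, Scheme.Hom.stalkMap_comp] at e
    simp only [φ, Category.assoc]
    exact e.symm
  obtain ⟨E⟩ := FlatMor68.PullbackStalk.nonempty_stalkPullbackEquiv ιX F z
  let R := S.presheaf.stalk (h (g x))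
  let B := Y.presheaf.stalk (g x)
  let B' := X.presheaf.stalk x
  let Q := (h.fiber s).presheaf.stalk w
  let C := ((g ≫ h).fiber s).presheaf.stalk z
  let M := F.presheaf.stalk x
  let N := ((Scheme.Modules.pullback ιX).obj F).presheaf.stalk z
  letI iRB : Algebra R B := (h.stalkMap (g x)).hom.toAlgebra
  letI iBB' : Algebra B B' := (g.stalkMap x).hom.toAlgebra
  letI iRB' : Algebra R B' := ((g ≫ h).stalkMap x).hom.toAlgebra
  letI iB'C : Algebra B' C := (ιX.stalkMap z).hom.toAlgebra
  letI iBQ : Algebra B Q := φ.hom.toAlgebra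
  letI iBC : Algebra B C := (φ ≫ gs.stalkMap z).hom.toAlgebra
  haveI : IsScalarTower R B B' := .of_algebraMap_eq' (congrArg CommRingCat.Hom.hom (Scheme.Hom.stalkMap_comp g h x))
  haveI : IsScalarTower B B' C := .of_algebraMap_eq' (congrArg CommRingCat.Hom.hom hcomm)
  letI : Module B M := FlatMod.moduleStalkOver g F x
  letI : Module R M := FlatMod.moduleStalkOver (g ≫ h) F x
  haveI : IsScalarTower B B' M := .of_algebraMap_smul fun _ _ => rfl
  haveI : IsScalarTower R B' M := .of_algebraMap_smul fun _ _ => rfl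
  haveI : IsScalarTower R B M := IsScalarTower.to₁₂₄ R B B' M
  letI : Module Q N := FlatMod.moduleStalkOver gs ((Scheme.Modules.pullback ιX).obj F) z
  letI : Module B N := Module.compHom N (φ ≫ gs.stalkMap z).hom
  haveI : IsScalarTower B Q N := .of_algebraMap_smul fun _ _ => rfl
  haveI : IsScalarTower B C N := .of_algebraMap_smul fun _ _ => rfl
  haveI : Module.Flat Q N := hfib
  haveI : Module.Flat R M := hfl
  haveI : IsLocalHom (algebraMap R B) := h.toLRSHom.prop (g x)
  haveI : IsLocalHom (algebraMap B B') := g.toLRSHom.prop x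
  haveI : Module.Finite B' M := by
    haveI := FlatMor68.FibreFree.finitePresentation_stalk F x
    infer_instance
  exact flat_of_flat_quot_local (R := R) (S := B) (S' := B') (E := Q) (C := C) (N := N) (M := M)
    (stalkCongr_surjective h s w (g x) hy) (stalkCongr_ker h s w (g x) hy)
    (FlatMor68.FibreStalk.fiberι_stalkMap_surjective (g ≫ h) s z)
    (FlatMor68.FibreStalk.ker_fiberι_stalkMap (g ≫ h) s z) E

theorem exists_nhd_not_isFlatOver [IsIntegral S] [IsNoetherian S] (g : X ⟶ Y) (h : Y ⟶ S)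
    [LocallyOfFiniteType h] [QuasiCompact h] [LocallyOfFiniteType (g ≫ h)] [QuasiCompact (g ≫ h)]
    (F : X.Modules) [F.IsQuasicoherent] [CohB1.IsFP F]
    (hη : ¬ FlatMod.IsFlatOver (fibreMap g h (genericPoint S))
      ((Scheme.Modules.pullback ((g ≫ h).fiberι (genericPoint S))).obj F)) :
    ∃ U : S.Opens, genericPoint S ∈ U ∧ ∀ s ∈ U,
      ¬ FlatMod.IsFlatOver (fibreMap g h s) ((Scheme.Modules.pullback ((g ≫ h).fiberι s)).obj F) := by
  haveI := LocallyOfFiniteType.isLocallyNoetherian h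
  haveI := LocallyOfFiniteType.isLocallyNoetherian (g ≫ h)
  haveI : CompactSpace X := QuasiCompact.compactSpace_of_compactSpace (g ≫ h)
  haveI : IsNoetherian X := { }
  haveI : LocallyOfFiniteType g := locallyOfFiniteType_of_comp g h
  obtain ⟨U₀, hUne, hU₀⟩ := Groth.Agent.S4698.result (g ≫ h) F (ConsProp93.isCoh_of_isFP ‹_› ‹_›)
  have hηU : genericPoint S ∈ U₀ := by
    obtain ⟨s, hs⟩ := hUne
    exact (genericPoint_specializes s).mem_open U₀.2 hs
  let A : Set S := (g ≫ h) '' {x | FlatMod.IsFlatOverAt g F x}ᶜ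
  have hA : IsLocallyConstructible A := (g ≫ h).isLocallyConstructible_image
    (ConsProp93.isLocallyConstructible_of_isClosed (Open62.isOpen_flatLocus g F ‹_› ‹_›).isClosed_compl)
  obtain ⟨z, hz⟩ := not_forall.mp hη
  have hηA : genericPoint S ∈ A := ⟨(g ≫ h).fiberι _ z, fun hx => hz
    (FlatMor66.isFlatOverAt_baseChange (isPullback_fibreMap g h _) F ‹_› z hx), AssTensor.fiberι_over (g ≫ h) _ z⟩
  have hi : genericPoint S ∈ interior A :=
    (ConsPts12.mem_interior_iff (ConsPts12.isLocallyConstructible_iff.mp hA).1 _).mpr fun w hw =>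
      (hw.antisymm (genericPoint_specializes w)).eq ▸ hηA
  refine ⟨⟨interior A ∩ U₀, isOpen_interior.inter U₀.2⟩, ⟨hi, hηU⟩, ?_⟩
  rintro s ⟨hs, hsU⟩ hflat
  obtain ⟨x, hx, hxs⟩ := interior_subset hs
  obtain ⟨z, rfl⟩ := AssFibre.exists_fiber_pt (g ≫ h) hxs
  refine hx (isFlatOverAt_of_fibre g h F s z (hU₀ _ ?_) (hflat z))
  show (g ≫ h) _ ∈ U₀
  rw [hxs]; exact hsU

end Groth.Agent.FBase64.FibreFlat
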