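import Groth.Agent.FBase64.Cons.FibreQProj
import Groth.Agent.S2074

/-! Fibrewise properness descends to a stage of a limit. -/

set_option autoImplicit false
universe u

open CategoryTheory CategoryTheory.Limits AlgebraicGeometry

namespace Groth.Agent.FBase64.FibreStage

variable {S X Y : Scheme.{u}} (f : X ⟶ Y) (g : Y ⟶ S)

/-- The base change along `t` is proper. -/
def ProperOver {Z : Scheme.{u}} (t : Z ⟶ S) : Prop := IsProper (fmap f g t)

theorem properOver_comp_of_squares {Z Z' Xj Yj : Scheme.{u}} (v : Z' ⟶ Z) {t : Z ⟶ S}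
    {pX : Xj ⟶ X} {pY : Yj ⟶ Y} {fj : Xj ⟶ Yj} {gj : Yj ⟶ Z} (hY : IsPullback pY gj g t)
    (hX : IsPullback pX fj f pY) (h : IsProper fj) : ProperOver f g (v ≫ t) := by
  obtain ⟨a, b, ha, -, -, -⟩ := exists_isPullback_of_comp f g v hY hX
    (IsPullback.of_hasPullback g (v ≫ t)) (isPullback_fmap f g (v ≫ t))
  exact MorphismProperty.of_isPullback ha h

theorem stable_properOver : Stable (S := S) (fun {Z} t => ProperOver f g (Z := Z) t) :=
  fun v t h => properOver_comp_of_squares f g v (IsPullback.of_hasPullback g t) (isPullback_fmap f g t) h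

theorem descends_properOver [LocallyOfFinitePresentation g] [QuasiCompact g] [QuasiSeparated g]
    [LocallyOfFinitePresentation (f ≫ g)] [QuasiCompact (f ≫ g)] [QuasiSeparated (f ≫ g)] :
    Descends (S := S) (fun {Z} t => ProperOver f g (Z := Z) t) := by
  intro I _ _ D c hc _ i₀ _ _ a h
  have e : fmap f g a ≫ pullback.snd g a = pullback.snd (f ≫ g) a := pullback.lift_snd _ _ _
  have : LocallyOfFiniteType (fmap f g a ≫ pullback.snd g a) := by rw [e]; infer_instance
  have : LocallyOfFiniteType (fmap f g a) := locallyOfFiniteType_of_comp _ (pullback.snd g a)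
  have : CompactSpace ↥(pullback g a) := QuasiCompact.compactSpace_of_compactSpace (pullback.snd g a)
  have : QuasiSeparatedSpace ↥(pullback g a) := quasiSeparatedSpace_of_quasiSeparated (pullback.snd g a)
  have : CompactSpace ↥(pullback (f ≫ g) a) :=
    QuasiCompact.compactSpace_of_compactSpace (pullback.snd (f ≫ g) a)
  have : QuasiSeparatedSpace ↥(pullback (f ≫ g) a) :=
    quasiSeparatedSpace_of_quasiSeparated (pullback.snd (f ≫ g) a)
  obtain ⟨u, v, hu, hv, -, -⟩ := exists_isPullback_of_comp f g (c.π.app i₀)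
    (IsPullback.of_hasPullback g a) (isPullback_fmap f g a)
    (IsPullback.of_hasPullback g (c.π.app i₀ ≫ a)) (isPullback_fmap f g (c.π.app i₀ ≫ a))
  have : IsProper (fmap f g (c.π.app i₀ ≫ a)) := h
  obtain ⟨j, φ, Xj, Yj, fj, gj, pY, pX, hY, hX, hj⟩ := Groth.Agent.S2074.result D c hc i₀
    (fmap f g a) (pullback.snd g a) _ _ v u hv hu
  refine ⟨j, φ, ?_⟩
  have := properOver_comp_of_squares f g (𝟙 _) (t := D.map φ ≫ a)
    (hY.paste_horiz (IsPullback.of_hasPullback g a)) (hX.paste_horiz (isPullback_fmap f g a)) hj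
  rwa [Category.id_comp] at this

/-- Two stable descending conditions descend together. -/
theorem descends_and {P Q : ∀ {Z : Scheme.{u}}, (Z ⟶ S) → Prop} (hP : Stable P) (hQ : Stable Q)
    (hP' : Descends P) (hQ' : Descends Q) : Descends (S := S) (fun {Z} t => P (Z := Z) t ∧ Q t) := by
  intro I _ _ D c hc _ i₀ _ _ a h
  obtain ⟨j, φ, hj⟩ := hP' D c hc i₀ a h.1
  obtain ⟨k, ψ, hk⟩ := hQ' D c hc i₀ a h.2
  obtain ⟨l, x, y, hxy⟩ : ∃ (l : I) (x : l ⟶ j) (y : l ⟶ k), x ≫ φ = y ≫ ψ := by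
    obtain ⟨m, x, y, -⟩ := IsCofilteredOrEmpty.cone_objs j k
    obtain ⟨l, z, hz⟩ := IsCofilteredOrEmpty.cone_maps (x ≫ φ) (y ≫ ψ)
    exact ⟨l, z ≫ x, z ≫ y, by rw [Category.assoc, Category.assoc, hz]⟩
  refine ⟨l, x ≫ φ, ?_, ?_⟩
  · rw [D.map_comp, Category.assoc]; exact hP _ _ hj
  · rw [hxy, D.map_comp, Category.assoc]; exact hQ _ _ hk

end Groth.Agent.FBase64.FibreStage
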