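import Groth.Agent.FBase64.Cons.FibreStage
import Groth.Agent.LimTop61.LocFreeStage
import Groth.Agent.Mero90.Frames
import Groth.Agent.Props58.LocFree.Criteria
import Groth.Agent.S4788
import Groth.Agent.S4792
import Groth.Prelude.Def_RelProj

/-! The locus of fibrewise quasi-projectivity is ind-constructible. -/

set_option autoImplicit false
universe u

open CategoryTheory CategoryTheory.Limits AlgebraicGeometry

namespace Groth.Agent.FBase64.FibreStage

theorem isInvertible_of_rank_one {X : Scheme.{u}} {L : X.Modules}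
    (h : FlatMod.IsFinLocFreeOfRank 1 L) : PicF.IsInvertible L := fun x => by
  obtain ⟨U, hx, ⟨φ⟩⟩ := h x
  exact ⟨U, hx, ⟨φ ≪≫ coproductUniqueIso fun _ : Fin 1 => Coh.structureModule (↑U : Scheme.{u})⟩⟩

variable {S X Y : Scheme.{u}} (f : X ⟶ Y) (g : Y ⟶ S)

/-- Some invertible module on the base change along `t` is relatively ample. -/
def HasAmpleOver {Z : Scheme.{u}} (t : Z ⟶ S) : Prop :=
  ∃ L : (pullback (f ≫ g) t).Modules, RelAmple.IsRelAmple (fmap f g t) L

theorem hasAmpleOver_comp_of_squares {Z Z' Xj Yj : Scheme.{u}} (v : Z' ⟶ Z) {t : Z ⟶ S}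
    {pX : Xj ⟶ X} {pY : Yj ⟶ Y} {fj : Xj ⟶ Yj} {gj : Yj ⟶ Z} (hY : IsPullback pY gj g t)
    (hX : IsPullback pX fj f pY) {L : Xj.Modules} (h : RelAmple.IsRelAmple fj L) :
    HasAmpleOver f g (v ≫ t) := by
  obtain ⟨a, b, ha, -, -, -⟩ := exists_isPullback_of_comp f g v hY hX
    (IsPullback.of_hasPullback g (v ≫ t)) (isPullback_fmap f g (v ≫ t))
  exact ⟨_, LimTop61.isRelAmple_of_isPullback ha h⟩

theorem stable_hasAmpleOver : Stable (S := S) (fun {Z} t => HasAmpleOver f g (Z := Z) t) :=
  fun v t ⟨_, h⟩ =>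
    hasAmpleOver_comp_of_squares f g v (IsPullback.of_hasPullback g t) (isPullback_fmap f g t) h

theorem descends_hasAmpleOver [LocallyOfFinitePresentation g] [QuasiCompact g] [QuasiSeparated g]
    [QuasiCompact (f ≫ g)] [QuasiSeparated (f ≫ g)] :
    Descends (S := S) (fun {Z} t => HasAmpleOver f g (Z := Z) t) := by
  intro I _ _ D c hc _ i₀ _ _ a h
  obtain ⟨L, hL⟩ := h
  let T := pullback (f ≫ g) a
  let at' : T ⟶ D.obj i₀ := pullback.snd (f ≫ g) a
  have : CompactSpace ↥T := QuasiCompact.compactSpace_of_compactSpace at'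
  have : QuasiSeparatedSpace ↥T := quasiSeparatedSpace_of_quasiSeparated at'
  let t := c.π.app i₀ ≫ a
  let q : pullback (f ≫ g) t ⟶ T := pullback.lift (pullback.fst (f ≫ g) t)
    (pullback.snd (f ≫ g) t ≫ c.π.app i₀) (by rw [Category.assoc]; exact pullback.condition)
  have hq : IsPullback q (pullback.snd (f ≫ g) t) at' (c.π.app i₀) := by
    refine IsPullback.of_right ?_ (pullback.lift_snd _ _ _) (IsPullback.of_hasPullback (f ≫ g) a)
    rw [pullback.lift_fst]
    exact IsPullback.of_hasPullback _ _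
  let P := LimTop61.bcDiagram D at'
  let cP := LimTop61.bcCone D c at' q (pullback.snd (f ≫ g) t) hq.w
  have hP : IsLimit cP := LimTop61.isLimitBcCone D c hc at' _ _ hq
  let o : Over i₀ := Over.mk (𝟙 i₀)
  have hinv : PicF.IsInvertible L := Amp73.isInvertible_of_isRelAmple hL
  have hlf := Mero90.isFinLocFreeOfRank_of_isInvertible hinv
  have hlf' : FlatMod.IsFinLocFree L := fun x => by
    obtain ⟨U, hx, hU⟩ := hlf x; exact ⟨U, 1, hx, hU⟩
  have hLfp : CohB1.IsFP L := Props58.LocFree.isFP_of_isFinLocFree hlf'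
  have : Coh.IsQCoh (show cP.pt.Modules from L) := Props58.LocFree.isQuasicoherent_of_isFinLocFree hlf'
  obtain ⟨k, -, F, hF1, hF2, ⟨eF⟩⟩ := Groth.Agent.S4788.result P cP hP o (show cP.pt.Modules from L) hLfp
  have hrk : FlatMod.IsFinLocFreeOfRank 1 ((Scheme.Modules.pullback (cP.π.app k)).obj F) := fun x => by
    obtain ⟨U, hx, ⟨φ⟩⟩ := hlf x
    exact ⟨U, hx, ⟨(Scheme.Modules.restrictFunctor U.ι).mapIso eF ≪≫ φ⟩⟩
  obtain ⟨l, ψ, hl⟩ := (Groth.Agent.S4792.result P cP hP k F hF2 1).mp hrk
  let L₁ := (Scheme.Modules.pullback (P.map ψ)).obj F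
  have hL₁ : PicF.IsInvertible L₁ := isInvertible_of_rank_one hl
  let a' := D.map l.hom ≫ a
  let pX : pullback at' (D.map l.hom) ⟶ X := pullback.fst at' (D.map l.hom) ≫ pullback.fst (f ≫ g) a
  let f₀ : pullback at' (D.map l.hom) ⟶ pullback g a' := pullback.lift (pX ≫ f) (pullback.snd at' (D.map l.hom))
    (by
      rw [Category.assoc]
      exact ((IsPullback.of_hasPullback at' (D.map l.hom)).paste_horiz
        (IsPullback.of_hasPullback (f ≫ g) a)).w)
  have hX₀ : IsPullback pX f₀ f (pullback.fst g a') := by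
    refine IsPullback.of_bot ?_ (pullback.lift_fst _ _ _).symm (IsPullback.of_hasPullback g a')
    rw [show f₀ ≫ pullback.snd g a' = pullback.snd at' (D.map l.hom) from pullback.lift_snd _ _ _]
    exact (IsPullback.of_hasPullback at' (D.map l.hom)).paste_horiz (IsPullback.of_hasPullback (f ≫ g) a)
  have ht : t = c.π.app l.left ≫ a' := by
    show c.π.app i₀ ≫ a = c.π.app l.left ≫ D.map l.hom ≫ a
    rw [← Category.assoc, c.w]
  have hY : IsPullback (pullback.fst g t) (pullback.snd g t) g (c.π.app l.left ≫ a') :=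
    ht ▸ IsPullback.of_hasPullback g t
  obtain ⟨u, v, hu, hv, hua, hva⟩ := exists_isPullback_of_comp f g (c.π.app l.left)
    (IsPullback.of_hasPullback g a') hX₀ hY (isPullback_fmap f g t)
  let π' : pullback (f ≫ g) t ⟶ pullback at' (D.map l.hom) :=
    pullback.lift q (pullback.snd (f ≫ g) t ≫ c.π.app l.left)
      (by rw [hq.w, Category.assoc, c.w])
  have hπX : π' ≫ pX = pullback.fst (f ≫ g) t :=
    (pullback.lift_fst_assoc _ _ _ _).trans (pullback.lift_fst _ _ _)
  have hu' : u = π' := by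
    refine hX₀.hom_ext (hua.trans hπX.symm) (pullback.hom_ext ?_ ?_)
    · have e : f₀ ≫ pullback.fst g a' = pX ≫ f := pullback.lift_fst _ _ _
      simp only [Category.assoc, e, reassoc_of% hua, reassoc_of% hπX]
    · have e : f₀ ≫ pullback.snd g a' = pullback.snd at' (D.map l.hom) := pullback.lift_snd _ _ _
      have e' : π' ≫ pullback.snd at' (D.map l.hom) = pullback.snd (f ≫ g) t ≫ c.π.app l.left :=
        pullback.lift_snd _ _ _
      have e'' : fmap f g t ≫ pullback.snd g t = pullback.snd (f ≫ g) t := pullback.lift_snd _ _ _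
      simp only [Category.assoc, e, e', ← e'']
      rw [← e, hu.w_assoc, hv.w]
  have : QuasiCompact (pullback.snd at' (D.map l.hom)) := inferInstance
  have : QuasiCompact (f₀ ≫ pullback.snd g a') := by
    rw [show f₀ ≫ pullback.snd g a' = pullback.snd at' (D.map l.hom) from pullback.lift_snd _ _ _]
    infer_instance
  have : QuasiSeparated (f₀ ≫ pullback.snd g a') := by
    rw [show f₀ ≫ pullback.snd g a' = pullback.snd at' (D.map l.hom) from pullback.lift_snd _ _ _]
    infer_instance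
  have : QuasiCompact f₀ := QuasiCompact.of_comp f₀ (pullback.snd g a')
  have : QuasiSeparated f₀ := QuasiSeparated.of_comp f₀ (pullback.snd g a')
  have : CompactSpace (D.obj l.left) := QuasiCompact.compactSpace_of_compactSpace (D.map l.hom)
  have : CompactSpace ↥(pullback g a') := QuasiCompact.compactSpace_of_compactSpace (pullback.snd g a')
  have h' : RelAmple.IsRelAmple (fmap f g t) ((Scheme.Modules.pullback u).obj L₁) :=
    Amp73.isRelAmple_of_iso
      (eF.symm ≪≫ ((LimTop61.pullbackCompIso (P.map ψ) u (hu'.symm ▸ cP.w ψ)).app F).symm) hL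
  obtain ⟨j, φ, Xj, Yj, fj, gj, pY, pXj, hYj, hXj, hj⟩ := (LimTop61.isRelAmple_iff_stage D c hc l.left
    f₀ (pullback.snd g a') L₁ hL₁ _ _ v u hv hu).mp h'
  refine ⟨j, φ ≫ l.hom, ?_⟩
  have := hasAmpleOver_comp_of_squares f g (𝟙 _) (t := D.map φ ≫ a')
    (hYj.paste_horiz (IsPullback.of_hasPullback g a')) (hXj.paste_horiz hX₀) hj
  rw [Category.id_comp, ← Category.assoc, ← D.map_comp] at this
  exact this

end Groth.Agent.FBase64.FibreStage
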