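import Groth.Agent.FBase64.Cons.FibreQProj
import Groth.Agent.LimTop61.FgSubalgLimit
import Groth.Agent.EGA73.NormRelAmple
import Groth.Agent.EGA73.MorDetNorm
import Groth.Agent.EGA73.AmpleBaseImmersion
import Groth.Agent.Ample57.Separated
import Groth.Agent.S0079
import Groth.Agent.S0080
import Mathlib.RingTheory.Jacobson.Ring

/-! Descent of quasi-projectivity along an extension of fields. -/

set_option autoImplicit false
universe u

open CategoryTheory CategoryTheory.Limits AlgebraicGeometry Opposite

namespace Groth.Agent.FBase64.FieldStage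

open FibreStage

variable {k : Type u} [Field k]

/-- A condition on `k`-schemes which descends and holds over some field extension holds over a
finite one. -/
theorem exists_finite_stage (Q : ∀ {Z : Scheme.{u}}, (Z ⟶ Spec (CommRingCat.of k)) → Prop)
    (hs : Stable Q) (hd : Descends Q) {K : Type u} [Field K] [Algebra k K]
    (h : Q (Spec.map (CommRingCat.ofHom (algebraMap k K)))) :
    ∃ (L : Type u) (_ : Field L) (_ : Algebra k L),
      Module.Finite k L ∧ Q (Spec.map (CommRingCat.ofHom (algebraMap k L))) := by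
  let A := CommRingCat.of k
  let B := CommRingCat.of K
  let D := LimTop61.subalgSpec A B
  let c := LimTop61.subalgCone A B
  let j₀ : (LimTop61.FgSubalg A B)ᵒᵖ := op ⟨⊥, Subalgebra.fg_bot⟩
  let t (j : (LimTop61.FgSubalg A B)ᵒᵖ) : D.obj j ⟶ Spec A :=
    Spec.map (CommRingCat.ofHom (algebraMap k j.unop.1))
  have ht {i j : (LimTop61.FgSubalg A B)ᵒᵖ} (f : i ⟶ j) : D.map f ≫ t j = t i := by
    simp only [D, t, LimTop61.subalgSpec, Functor.comp_map, Functor.op_map, Scheme.Spec_map,
      Quiver.Hom.unop_op]
    erw [← Spec.map_comp]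
    rfl
  have hπ (j : (LimTop61.FgSubalg A B)ᵒᵖ) : c.π.app j ≫ t j = Spec.map (CommRingCat.ofHom (algebraMap k K)) := by
    simp only [c, t, LimTop61.subalgCone, Functor.mapCone_π_app]
    erw [← Spec.map_comp]
    rfl
  haveI : CompactSpace (D.obj j₀) := inferInstanceAs (CompactSpace ↥(Spec _))
  haveI : QuasiSeparatedSpace (D.obj j₀) := inferInstanceAs (QuasiSeparatedSpace ↥(Spec _))
  haveI : IsDirectedOrder (LimTop61.FgSubalg A B) :=
    ⟨fun S T => ⟨⟨S.1 ⊔ T.1, S.2.sup T.2⟩, le_sup_left (a := S.1), le_sup_right (a := S.1)⟩⟩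
  haveI : Nonempty (LimTop61.FgSubalg A B) := ⟨⟨⊥, Subalgebra.fg_bot⟩⟩
  haveI : IsFiltered (LimTop61.FgSubalg A B) := isFiltered_of_directed_le_nonempty _
  haveI : IsCofiltered (LimTop61.FgSubalg A B)ᵒᵖ := isCofiltered_op_of_isFiltered _
  obtain ⟨j, φ, hj⟩ := hd D c (LimTop61.isLimitSubalgCone A B) j₀ (t j₀) (by rwa [hπ])
  rw [ht] at hj
  let S := j.unop.1
  haveI : Algebra.FiniteType k S := ⟨(Subalgebra.fg_top _).mpr j.unop.2⟩
  obtain ⟨m, hm⟩ := Ideal.exists_maximal S
  letI : Field (S ⧸ m) := Ideal.Quotient.field m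
  haveI : Algebra.FiniteType k (S ⧸ m) :=
    Algebra.FiniteType.of_surjective (Ideal.Quotient.mkₐ k m) Ideal.Quotient.mk_surjective
  refine ⟨S ⧸ m, inferInstance, inferInstance, finite_of_finite_type_of_isJacobsonRing k _, ?_⟩
  have := hs (Spec.map (CommRingCat.ofHom (Ideal.Quotient.mk m))) _ hj
  rwa [show t j = Spec.map (CommRingCat.ofHom (algebraMap k S)) from rfl, ← Spec.map_comp] at this

variable {X : Scheme.{u}} (p : X ⟶ Spec (CommRingCat.of k)) {K : Type u} [Field K] [Algebra k K]

/-- The base change morphism of a field extension is an fpqc covering. -/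
theorem fpqc_algebraMap (k K : Type u) [Field k] [Field K] [Algebra k K] :
    (@Surjective ⊓ @Flat ⊓ @QuasiCompact : MorphismProperty Scheme.{u})
      (Spec.map (CommRingCat.ofHom (algebraMap k K))) :=
  ⟨⟨inferInstance, (HasRingHomProperty.Spec_iff (P := @Flat)).mpr
    (RingHom.flat_algebraMap_iff.mpr inferInstance)⟩, inferInstance⟩

/-- A scheme over a field with a relatively ample module after an extension of the field has
one. -/
theorem exists_isRelAmple_of_baseChange {L : (pullback p (Spec.map (CommRingCat.ofHom (algebraMap k K)))).Modules}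
    (hL : RelAmple.IsRelAmple (pullback.snd p (Spec.map (CommRingCat.ofHom (algebraMap k K)))) L) :
    ∃ M : X.Modules, RelAmple.IsRelAmple p M := by
  set ψ := Spec.map (CommRingCat.ofHom (algebraMap k K)) with hψ
  have hcov := fpqc_algebraMap k K
  have h2 := hL.1
  have : IsSeparated (pullback.snd p ψ) := Ample57.isSeparated_of_isRelAmple hL
  have hqs : QuasiSeparated (pullback.snd p ψ) := inferInstance
  haveI := Groth.Agent.S0079.result.{u}
  haveI := Groth.Agent.S0080.result.{u}
  have : QuasiCompact p :=
    MorphismProperty.of_pullback_snd_of_descendsAlong (P := @QuasiCompact)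
      (Q := @Surjective ⊓ @Flat ⊓ @QuasiCompact) hcov h2
  have : QuasiSeparated p :=
    MorphismProperty.of_pullback_snd_of_descendsAlong (P := @QuasiSeparated)
      (Q := @Surjective ⊓ @Flat ⊓ @QuasiCompact) hcov hqs
  let idS := 𝟙 (Spec (CommRingCat.of k))
  have : QuasiCompact (p ≫ idS) := by rw [Category.comp_id]; infer_instance
  have : QuasiSeparated (p ≫ idS) := by rw [Category.comp_id]; infer_instance
  have hK : HasAmpleOver p idS ψ := by
    have := hasAmpleOver_comp_of_squares p idS (𝟙 _) (t := ψ)
      (IsPullback.of_vert_isIso ⟨rfl.trans ((Category.id_comp ψ).trans (Category.comp_id ψ).symm).symm⟩)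
      (IsPullback.of_hasPullback p ψ) hL
    rwa [Category.id_comp] at this
  obtain ⟨E, _, _, hfin, L₀, hL₀⟩ := exists_finite_stage (fun {Z} t => HasAmpleOver p idS (Z := Z) t)
    (stable_hasAmpleOver p idS) (descends_hasAmpleOver p idS) hK
  set t := Spec.map (CommRingCat.ofHom (algebraMap k E))
  have : IsFinite t := (IsFinite.SpecMap_iff _).mpr (RingHom.finite_algebraMap.mpr hfin)
  have hcov' := fpqc_algebraMap k E
  have : Flat t := hcov'.1.2
  have : LocallyOfFinitePresentation t := (HasRingHomProperty.Spec_iff (P := @LocallyOfFinitePresentation)).mpr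
    (RingHom.finitePresentation_algebraMap.mpr (Algebra.FinitePresentation.of_finiteType.mp inferInstance))
  let e := pullback.fst (p ≫ idS) t
  have : IsAffine (pullback idS t) := isAffine_of_isAffineHom (pullback.snd idS t)
  have : QuasiCompact (e ≫ p) := inferInstance
  have hA := (Amp73.isRelAmple_iff_isAmple (fmap p idS t)).mp hL₀
  obtain ⟨M, -, hM⟩ := EGA73.exists_relAmple_norm p e (EGA73.isFinLocFree_push e)
    ((Amp73.isRelAmple_iff_isAmple (e ≫ p)).mpr hA)
  exact ⟨M, hM⟩

/-- A scheme over a field which is quasi-projective after an extension of the field is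
quasi-projective. -/
theorem isQuasiProjective_of_baseChange
    (h : RelProj.IsQuasiProjective (pullback.snd p (Spec.map (CommRingCat.ofHom (algebraMap k K))))) :
    RelProj.IsQuasiProjective p := by
  obtain ⟨h1, -, L, hL⟩ := h
  obtain ⟨M, hM⟩ := exists_isRelAmple_of_baseChange p hL
  exact ⟨MorphismProperty.of_pullback_snd_of_descendsAlong (P := @LocallyOfFiniteType)
    (Q := @Surjective ⊓ @Flat ⊓ @QuasiCompact) (fpqc_algebraMap k K) h1, hM.1, M, hM⟩

/-- A scheme over a field with an immersion into projective space after an extension of the field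
has such an immersion. -/
theorem exists_immersion_of_baseChange {n : ℕ}
    (i : pullback p (Spec.map (CommRingCat.ofHom (algebraMap k K))) ⟶
      CohB1.ProjSpaceOver n (Spec (CommRingCat.of K))) [IsImmersion i]
    (hi : i ≫ CohB1.ProjSpaceOver.toBase n _ = pullback.snd p (Spec.map (CommRingCat.ofHom (algebraMap k K)))) :
    ∃ (m : ℕ) (j : X ⟶ CohB1.ProjSpaceOver m (Spec (CommRingCat.of k))),
      IsImmersion j ∧ j ≫ CohB1.ProjSpaceOver.toBase m _ = p := by
  have hP := (S4418.result _ (EGA73.ProjSpaceProjective.isProjective_toBase n (Spec (CommRingCat.of K)))).2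
  have : CompactSpace ↥(CohB1.ProjSpaceOver n (Spec (CommRingCat.of K))) :=
    QuasiCompact.compactSpace_of_compactSpace (CohB1.ProjSpaceOver.toBase n _)
  have : IsLocallyNoetherian (CohB1.ProjSpaceOver n (Spec (CommRingCat.of K))) :=
    LocallyOfFiniteType.isLocallyNoetherian (CohB1.ProjSpaceOver.toBase n _)
  have : IsNoetherian (CohB1.ProjSpaceOver n (Spec (CommRingCat.of K))) := { }
  have : LocallyOfFiniteType (pullback.snd p (Spec.map (CommRingCat.ofHom (algebraMap k K)))) := by
    rw [← hi]; infer_instance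
  have : TopologicalSpace.NoetherianSpace ↥(pullback p (Spec.map (CommRingCat.ofHom (algebraMap k K)))) :=
    i.isEmbedding.isInducing.noetherianSpace
  exact EGA73.AmpleBaseImmersion.exists_immersion
    ⟨Coh.structureModule _, Amp73.isAmple_of_isQuasiAffine EGA73.isInvertible_structureModule⟩
    (isQuasiProjective_of_baseChange p (EGA73.AmpleBaseImmersion.isQuasiProjective_of_immersion i hi))

/-- A scheme over a field which is projective after an extension of the field is projective. -/
theorem exists_isClosedImmersion_of_baseChange {n : ℕ}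
    (i : pullback p (Spec.map (CommRingCat.ofHom (algebraMap k K))) ⟶
      CohB1.ProjSpaceOver n (Spec (CommRingCat.of K))) [IsClosedImmersion i]
    (hi : i ≫ CohB1.ProjSpaceOver.toBase n _ = pullback.snd p (Spec.map (CommRingCat.ofHom (algebraMap k K)))) :
    ∃ (m : ℕ) (j : X ⟶ CohB1.ProjSpaceOver m (Spec (CommRingCat.of k))),
      IsClosedImmersion j ∧ j ≫ CohB1.ProjSpaceOver.toBase m _ = p := by
  have := (S4418.result _ (EGA73.ProjSpaceProjective.isProjective_toBase n (Spec (CommRingCat.of K)))).2
  have h : UniversallyClosed (pullback.snd p (Spec.map (CommRingCat.ofHom (algebraMap k K)))) := by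
    rw [← hi]; infer_instance
  have : UniversallyClosed p :=
    MorphismProperty.of_pullback_snd_of_descendsAlong (P := @UniversallyClosed)
      (Q := @Surjective ⊓ @Flat ⊓ @QuasiCompact) (fpqc_algebraMap k K) h
  obtain ⟨m, j, hj, hjp⟩ := exists_immersion_of_baseChange p i hi
  have := (S4418.result _ (EGA73.ProjSpaceProjective.isProjective_toBase m (Spec (CommRingCat.of k)))).2
  have : UniversallyClosed (j ≫ CohB1.ProjSpaceOver.toBase m _) := hjp ▸ ‹UniversallyClosed p›
  have : UniversallyClosed j := UniversallyClosed.of_comp_of_isSeparated j (CohB1.ProjSpaceOver.toBase m _)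
  exact ⟨m, j, IsClosedImmersion.iff_isPreimmersion.2 ⟨inferInstance, j.isClosedMap.isClosed_range⟩, hjp⟩

end Groth.Agent.FBase64.FieldStage
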