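import Groth.Agent.RadPt58.Unibranch
import Groth.Agent.RadPt58.Points
import Groth.Agent.ConsProp93.Radicial
import Groth.Agent.ConsProp93.Approx
import Mathlib.RingTheory.Ideal.MinimalPrime.Noetherian
import Mathlib.RingTheory.IntegralClosure.IntegrallyClosed

/-! The geometrically unibranch locus. -/

set_option autoImplicit false
set_option linter.style.haveILetI false
set_option maxHeartbeats 1000000
universe u

open CategoryTheory CategoryTheory.Limits AlgebraicGeometry TopologicalSpace Topology Groth.Agent.RadPt58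

namespace Groth.Agent.FBase64.Unibranch

variable (R : Type u) [CommRing R]

/-- The normalization of one component. -/
abbrev Comp (P : minimalPrimes R) : Type u := integralClosure R P.1.ResidueField

/-- The product of the normalizations of the components. -/
abbrev D : Type u := ∀ P : minimalPrimes R, Comp R P

variable [IsNoetherianRing R]

theorem finite_minimalPrimes : Finite (minimalPrimes R) :=
  (minimalPrimes.finite_of_isNoetherianRing R).to_subtype

variable [hfin : Module.Finite (CAlg2.red R) (CAlg2.normRed R)]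

include hfin in
theorem finite_comp (P : minimalPrimes R) : Module.Finite R (Comp R P) := by
  classical
  haveI := finite_minimalPrimes R
  let F := FractionRing (CAlg2.red R)
  let mk := Ideal.Quotient.mk (nilradical R)
  have hnil : ∀ r : R, (∀ Q : minimalPrimes R, r ∈ Q.1) → mk r = 0 := fun r hr => by
    rw [Ideal.Quotient.eq_zero_iff_mem, nilradical, ← Ideal.sInf_minimalPrimes, Ideal.zero_eq_bot]
    exact Submodule.mem_sInf.mpr fun Q hQ => hr ⟨Q, hQ⟩
  have hle : ∀ Q : minimalPrimes R, nilradical R ≤ Q.1 := fun Q => nilradical_le_prime Q.1 (H := Q.2.1.1)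
  let π : ∀ Q : minimalPrimes R, CAlg2.red R →+* Q.1.ResidueField := fun Q =>
    Ideal.Quotient.lift _ (algebraMap R Q.1.ResidueField) fun r hr =>
      Ideal.algebraMap_residueField_eq_zero.mpr (hle Q hr)
  have hunit : ∀ (Q : minimalPrimes R) (y : nonZeroDivisors (CAlg2.red R)), IsUnit (π Q y) := by
    rintro Q ⟨y, hy⟩
    obtain ⟨y, rfl⟩ := Ideal.Quotient.mk_surjective y
    refine isUnit_iff_ne_zero.mpr fun h => ?_
    obtain ⟨t, ht, htQ⟩ : ∃ t, (∀ Q' : minimalPrimes R, Q' ≠ Q → t ∈ Q'.1) ∧ t ∉ Q.1 := by
      haveI := Q.2.1.1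
      haveI := Fintype.ofFinite (minimalPrimes R)
      by_contra hcon
      push Not at hcon
      obtain ⟨Q', hQ', hle'⟩ := (Ideal.IsPrime.inf_le' ‹Q.1.IsPrime›).mp
        (show (Finset.univ.erase Q).inf (fun Q' : minimalPrimes R => Q'.1) ≤ Q.1 from fun t ht => hcon t fun Q' hne =>
          (Finset.inf_le (f := fun Q' : minimalPrimes R => Q'.1) (Finset.mem_erase.mpr ⟨hne, Finset.mem_univ _⟩)) ht)
      exact (Finset.mem_erase.mp hQ').1 (Subtype.ext (le_antisymm hle' (Q.2.2 Q'.2.1 hle')))
    have hy0 : mk t * mk y = 0 := by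
      rw [← map_mul]
      refine hnil _ fun Q' => ?_
      by_cases hne : Q' = Q
      · subst hne
        exact Ideal.mul_mem_left _ _ (Ideal.algebraMap_residueField_eq_zero.mp h)
      · exact Ideal.mul_mem_right _ _ (ht Q' hne)
    exact htQ (hle Q (Ideal.Quotient.eq_zero_iff_mem.mp ((mem_nonZeroDivisors_iff.mp hy).2 _ hy0)))
  let φ : ∀ Q : minimalPrimes R, F →+* Q.1.ResidueField := fun Q => IsLocalization.lift (hunit Q)
  have hφ : ∀ (Q : minimalPrimes R) (r : CAlg2.red R), φ Q (algebraMap _ F r) = π Q r := fun Q r =>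
    IsLocalization.lift_eq (hunit Q) r
  have hφR : ∀ (Q : minimalPrimes R) (r : R), φ Q (algebraMap R F r) = algebraMap R Q.1.ResidueField r := fun Q r => by
    rw [IsScalarTower.algebraMap_apply R (CAlg2.red R) F, hφ]
    rfl
  let ψ : CAlg2.normRed R →ₗ[R] Comp R P :=
    { toFun := fun z => ⟨φ P z.1, by
        obtain ⟨p, hp, hp0⟩ := isIntegral_trans (R := R) z.1 z.2
        refine ⟨p, hp, ?_⟩
        have := congrArg (φ P) hp0
        rw [Polynomial.hom_eval₂, map_zero] at this
        rw [show (φ P).comp (algebraMap R F) = algebraMap R P.1.ResidueField from RingHom.ext (hφR P)] at this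
        exact this⟩
      map_add' := fun a b => Subtype.ext (map_add (φ P) a.1 b.1)
      map_smul' := fun r a => Subtype.ext (by
        show φ P (r • a.1) = r • φ P a.1
        rw [Algebra.smul_def, Algebra.smul_def, map_mul, hφR]) }
  have hsurj : Function.Surjective ψ := by
    haveI := P.2.1.1
    rintro ⟨x, p, hp, hp0⟩
    obtain ⟨a, a', ha', rfl⟩ := IsFractionRing.div_surjective (A := R ⧸ P.1) x
    obtain ⟨a, rfl⟩ := Ideal.Quotient.mk_surjective a
    obtain ⟨a', rfl⟩ := Ideal.Quotient.mk_surjective a'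
    have ha'P : a' ∉ P.1 := fun h => nonZeroDivisors.ne_zero ha' (Ideal.Quotient.eq_zero_iff_mem.mpr h)
    haveI := Fintype.ofFinite (minimalPrimes R)
    obtain ⟨b, hb, hbP⟩ : ∃ b, (∀ Q : minimalPrimes R, Q ≠ P → b ∈ Q.1) ∧ b ∉ P.1 := by
      by_contra hcon
      push Not at hcon
      obtain ⟨Q, hQ, hle'⟩ := (Ideal.IsPrime.inf_le' ‹P.1.IsPrime›).mp
        (show (Finset.univ.erase P).inf (fun Q : minimalPrimes R => Q.1) ≤ P.1 from fun t ht => hcon t fun Q hne =>
          (Finset.inf_le (f := fun Q : minimalPrimes R => Q.1) (Finset.mem_erase.mpr ⟨hne, Finset.mem_univ _⟩)) ht)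
      exact (Finset.mem_erase.mp hQ).1 (Subtype.ext (le_antisymm hle' (P.2.2 Q.2.1 hle')))
    obtain ⟨c, hc, hcQ⟩ : ∃ c ∈ P.1, ∀ Q : minimalPrimes R, Q ≠ P → c ∉ Q.1 := by
      by_contra hcon
      push Not at hcon
      have hsub : (P.1 : Set R) ⊆ ⋃ Q ∈ (↑(Finset.univ.erase P) : Set (minimalPrimes R)), (Q.1 : Set R) := fun c hc => by
        obtain ⟨Q, hQ, hcQ⟩ := hcon c hc
        exact Set.mem_iUnion₂.mpr ⟨Q, Finset.mem_erase.mpr ⟨hQ, Finset.mem_univ _⟩, hcQ⟩
      obtain ⟨Q, hQ, hle'⟩ := (Ideal.subset_union_prime P P fun Q _ _ _ => Q.2.1.1).mp hsub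
      exact (Finset.mem_erase.mp hQ).1 (Subtype.ext (le_antisymm (P.2.2 Q.2.1 |> fun h => Q.2.2 P.2.1 hle') hle'))
    have hden : mk (a' * b + c) ∈ nonZeroDivisors (CAlg2.red R) := by
      have : ∀ x : CAlg2.red R, x * mk (a' * b + c) = 0 → x = 0 := by
        intro x hx
        obtain ⟨x, rfl⟩ := Ideal.Quotient.mk_surjective x
        rw [← map_mul, Ideal.Quotient.eq_zero_iff_mem] at hx
        refine hnil x fun Q => ?_
        refine (Q.2.1.1.mem_or_mem (hle Q hx)).resolve_right fun h => ?_
        by_cases hne : Q = P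
        · subst hne
          exact (Q.2.1.1.mem_or_mem ((Ideal.add_mem_iff_left _ hc).mp h)).elim ha'P hbP
        · exact hcQ Q hne ((Ideal.add_mem_iff_right _ (Ideal.mul_mem_left _ a' (hb Q hne))).mp h)
      exact mem_nonZeroDivisors_iff.mpr ⟨fun x hx => this x (by rwa [mul_comm] at hx), this⟩
    let z : F := IsLocalization.mk' F (mk (a * b)) ⟨_, hden⟩
    have hz : ∀ Q : minimalPrimes R, φ Q z * algebraMap R _ (a' * b + c) = algebraMap R _ (a * b) := by
      intro Q
      have e := congrArg (φ Q) (IsLocalization.mk'_spec F (mk (a * b)) (⟨_, hden⟩ : nonZeroDivisors (CAlg2.red R)))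
      rw [map_mul, hφ, hφ] at e
      exact e
    have hb0 : algebraMap R P.1.ResidueField b ≠ 0 := fun h => hbP (Ideal.algebraMap_residueField_eq_zero.mp h)
    have ha0 : algebraMap R P.1.ResidueField a' ≠ 0 := fun h => ha'P (Ideal.algebraMap_residueField_eq_zero.mp h)
    have hzP : φ P z = algebraMap (R ⧸ P.1) P.1.ResidueField (Ideal.Quotient.mk _ a) /
        algebraMap (R ⧸ P.1) P.1.ResidueField (Ideal.Quotient.mk _ a') := by
      have e := hz P
      simp only [map_add, map_mul, Ideal.algebraMap_residueField_eq_zero.mpr hc, add_zero] at e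
      simp only [Ideal.algebraMap_quotient_residueField_mk]
      rw [eq_div_iff ha0]
      exact mul_right_cancel₀ hb0 (by rw [mul_assoc]; exact e)
    have hzQ : ∀ Q : minimalPrimes R, Q ≠ P → φ Q z = 0 := by
      intro Q hne
      haveI := Q.2.1.1
      have e := hz Q
      rw [map_mul _ a b, Ideal.algebraMap_residueField_eq_zero.mpr (hb Q hne), mul_zero] at e
      refine (mul_eq_zero.mp e).resolve_right fun h => ?_
      exact hcQ Q hne ((Ideal.add_mem_iff_right _ (Ideal.mul_mem_left _ a' (hb Q hne))).mp
        (Ideal.algebraMap_residueField_eq_zero.mp h))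
    have hint : IsIntegral R z := by
      refine ⟨Polynomial.X * p, Polynomial.monic_X.mul hp, ?_⟩
      rw [Polynomial.eval₂_mul, Polynomial.eval₂_X]
      obtain ⟨⟨r, s⟩, hrs⟩ := IsLocalization.surj (nonZeroDivisors (CAlg2.red R)) (z * Polynomial.eval₂ (algebraMap R F) z p)
      refine (IsLocalization.map_units F s).mul_left_eq_zero.mp (hrs.trans ?_)
      obtain ⟨r, rfl⟩ := Ideal.Quotient.mk_surjective r
      suffices mk r = 0 by rw [this, map_zero]
      refine hnil r fun Q => ?_
      haveI := Q.2.1.1
      refine Ideal.algebraMap_residueField_eq_zero.mp ?_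
      have e := congrArg (φ Q) hrs
      simp only [map_mul, hφ] at e
      refine e.symm.trans ?_
      by_cases hne : Q = P
      · subst hne
        rw [Polynomial.hom_eval₂, hzP, show (φ Q).comp (algebraMap R F) = algebraMap R Q.1.ResidueField from
          RingHom.ext (hφR Q), hp0, mul_zero, zero_mul]
      · rw [hzQ Q hne, zero_mul, zero_mul]
    exact ⟨⟨z, hint.tower_top⟩, Subtype.ext hzP⟩
  haveI : Module.Finite R (CAlg2.red R) := Module.Finite.of_surjective (Submodule.mkQ _) (Submodule.mkQ_surjective _)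
  haveI : Module.Finite R (CAlg2.normRed R) := Module.Finite.trans (CAlg2.red R) _
  exact Module.Finite.of_surjective ψ hsurj

include hfin in
theorem finite_D : Module.Finite R (D R) := by
  haveI := finite_minimalPrimes R
  haveI := finite_comp R
  infer_instance

omit hfin in
theorem subsingleton_br_iff_homs {Ω : Type u} [Field Ω] (a : R →+* Ω) :
    Subsingleton (Br R a) ↔ Subsingleton {b : D R →+* Ω // b.comp (algebraMap R (D R)) = a} := by
  classical
  haveI := finite_minimalPrimes R
  haveI := Fintype.ofFinite (minimalPrimes R)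
  let F : Br R a → {b : D R →+* Ω // b.comp (algebraMap R (D R)) = a} := fun z =>
    ⟨z.2.1.comp (Pi.evalRingHom _ z.1), z.2.2⟩
  have hinj : Function.Injective F := by
    rintro ⟨P, φ, hφ⟩ ⟨Q, ψ, hψ⟩ h
    have h' : φ.comp (Pi.evalRingHom (fun P => Comp R P) P) = ψ.comp (Pi.evalRingHom (fun P => Comp R P) Q) := congrArg Subtype.val h
    have e : P = Q := by
      by_contra hne
      have := RingHom.congr_fun h' (Pi.single P 1)
      change φ ((Pi.single P (1 : Comp R P) : D R) P) = ψ ((Pi.single P (1 : Comp R P) : D R) Q) at this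
      rw [Pi.single_eq_same, map_one, Pi.single_eq_of_ne (Ne.symm hne), map_zero] at this
      exact one_ne_zero this
    subst e
    have : φ = ψ := RingHom.ext fun y => by
      have := RingHom.congr_fun h' (Pi.single P y)
      change φ ((Pi.single P y : D R) P) = ψ ((Pi.single P y : D R) P) at this
      rwa [Pi.single_eq_same] at this
    subst this
    rfl
  have hsurj : Function.Surjective F := by
    rintro ⟨b, hb⟩
    obtain ⟨P, hP⟩ : ∃ P, b (Pi.single P 1) ≠ 0 := by
      by_contra hcon
      push Not at hcon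
      have : b 1 = 0 := by
        rw [← Finset.univ_sum_single (1 : D R), map_sum]
        exact Finset.sum_eq_zero fun P _ => hcon P
      rw [map_one] at this
      exact one_ne_zero this
    have hmul : ∀ x : D R, b (Pi.single P (x P)) = b (Pi.single P 1) * b x := fun x => by
      rw [← map_mul]
      congr 1
      rw [← Pi.single_mul_left, one_mul]
    have hone : b (Pi.single P 1) = 1 := by
      have := hmul (Pi.single P 1)
      rw [Pi.single_eq_same] at this
      exact (mul_eq_left₀ hP).mp this.symm
    let φ : Comp R P →+* Ω :=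
      { toFun := fun y => b (Pi.single P y)
        map_one' := hone
        map_zero' := by simp
        map_add' := fun y y' => by rw [Pi.single_add, map_add]
        map_mul' := fun y y' => by rw [← map_mul, ← Pi.single_mul] }
    have hfac : φ.comp (Pi.evalRingHom _ P) = b := RingHom.ext fun x => by
      show b (Pi.single P (x P)) = b x
      rw [hmul, hone, one_mul]
    exact ⟨⟨P, φ, by rw [← hb, ← hfac]; rfl⟩, Subtype.ext hfac⟩
  exact (Equiv.ofBijective F ⟨hinj, hsurj⟩).subsingleton_congr

omit hfin in
theorem isGeomUnibranch_iff {X : Scheme.{u}} {W : X.Opens} (hW : IsAffineOpen W) [IsNoetherianRing Γ(X, W)]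
    (x : X) (hx : x ∈ W) :
    CAlg2.IsGeomUnibranch (X.presheaf.stalk x) ↔
      PointsInj (Spec.map (CommRingCat.ofHom (algebraMap Γ(X, W) (D Γ(X, W))))) (hW.primeIdealOf ⟨x, hx⟩) := by
  let A := Γ(X, W)
  let P : PrimeSpectrum A := hW.primeIdealOf ⟨x, hx⟩
  constructor
  · intro h K _ g₁ g₂ hg hy
    obtain ⟨b₁, rfl⟩ := Spec.map_surjective g₁
    obtain ⟨b₂, rfl⟩ := Spec.map_surjective g₂
    let j := algebraMap K (AlgebraicClosure K)
    let a : A →+* AlgebraicClosure K := (j.comp b₁.hom).comp (algebraMap A (D A))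
    have ha : RingHom.ker a = P.asIdeal := by
      have e := congrArg PrimeSpectrum.asIdeal hy
      show RingHom.ker ((j.comp b₁.hom).comp (algebraMap A (D A))) = _
      rw [show P = hW.primeIdealOf ⟨x, hx⟩ from rfl, ← e, ← RingHom.comap_ker,
        RingHom.ker_comp_of_injective _ j.injective]
      show _ = Ideal.comap _ (Ideal.comap b₁.hom (IsLocalRing.maximalIdeal K))
      rw [IsLocalRing.maximalIdeal_eq_bot, ← RingHom.ker_eq_comap_bot]
      rfl
    haveI := (subsingleton_br_iff_homs A a).mp ((isGeomUnibranch_iff_br hW x hx a ha).mp h)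
    rw [← Spec.map_comp, ← Spec.map_comp] at hg
    have hc := congrArg CommRingCat.Hom.hom (Spec.map_injective hg)
    have := congrArg Subtype.val (Subsingleton.elim
      (⟨j.comp b₁.hom, rfl⟩ : {b : D A →+* AlgebraicClosure K // b.comp (algebraMap A (D A)) = a})
      ⟨j.comp b₂.hom, by
        show (j.comp b₂.hom).comp _ = (j.comp b₁.hom).comp _
        rw [RingHom.comp_assoc, RingHom.comp_assoc]
        exact congrArg j.comp hc.symm⟩)
    exact congrArg Spec.map (CommRingCat.hom_ext (RingHom.ext fun y => j.injective (RingHom.congr_fun this y)))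
  · intro h
    let Ω := AlgebraicClosure P.asIdeal.ResidueField
    let a : A →+* Ω := (algebraMap P.asIdeal.ResidueField Ω).comp (algebraMap A _)
    have ha : RingHom.ker a = P.asIdeal := by
      show RingHom.ker ((algebraMap P.asIdeal.ResidueField Ω).comp (algebraMap A _)) = _
      rw [RingHom.ker_comp_of_injective _ (RingHom.injective _), Ideal.ker_algebraMap_residueField]
    refine (isGeomUnibranch_iff_br hW x hx a ha).mpr ((subsingleton_br_iff_homs A a).mpr ⟨fun b b' => ?_⟩)
    refine Subtype.ext (congrArg CommRingCat.Hom.hom (Spec.map_injective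
      (h Ω (Spec.map (CommRingCat.ofHom b.1)) (Spec.map (CommRingCat.ofHom b'.1)) ?_ ?_)))
    · rw [← Spec.map_comp, ← Spec.map_comp, ← CommRingCat.ofHom_comp, ← CommRingCat.ofHom_comp, b.2, b'.2]
    · refine PrimeSpectrum.ext ?_
      show Ideal.comap _ (Ideal.comap b.1 (IsLocalRing.maximalIdeal Ω)) = P.asIdeal
      rw [IsLocalRing.maximalIdeal_eq_bot, ← RingHom.ker_eq_comap_bot, RingHom.comap_ker]
      exact (congrArg RingHom.ker b.2).trans ha

theorem pointsInj_iff_fiber {X S : Scheme.{u}} (f : X ⟶ S) (s : S) :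
    PointsInj f s ↔ UniversallyInjective (f.fiberToSpecResidueField s) := by
  have hy : S.fromSpecResidueField s (pt (S.residueField s)) = s := S.fromSpecResidueField_apply s _
  have h1 := pointsInj_of_isPullback (IsPullback.of_hasPullback f (S.fromSpecResidueField s)) (pt (S.residueField s))
  rw [hy] at h1
  refine h1.trans ?_
  show _ ↔ UniversallyInjective (pullback.snd f (S.fromSpecResidueField s))
  rw [((tfae_universallyInjective (pullback.snd f (S.fromSpecResidueField s))).out 0 1 :)]
  constructor
  · intro h K _ g₁ g₂ hg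
    exact h K g₁ g₂ hg (Subsingleton.elim (α := PrimeSpectrum (S.residueField s)) _ _)
  · intro h K _ g₁ g₂ hg _
    exact h K hg

theorem isLocallyConstructible_geomUnibranch (X : Scheme.{u}) [IsLocallyNoetherian X]
    (hfin : ∀ U : X.affineOpens, Module.Finite (CAlg2.red Γ(X, U.1)) (CAlg2.normRed Γ(X, U.1))) :
    IsLocallyConstructible {x : X | CAlg2.IsGeomUnibranch (X.presheaf.stalk x)} := by
  refine ConsProp93.isLocallyConstructible_of_affine fun W hW => ?_
  let A := Γ(X, W)
  haveI : IsNoetherianRing A := IsLocallyNoetherian.component_noetherian ⟨W, hW⟩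
  haveI := hfin ⟨W, hW⟩
  haveI := finite_D A
  let ν := Spec.map (CommRingCat.ofHom (algebraMap A (D A)))
  haveI : IsFinite ν := (IsFinite.SpecMap_iff _).mpr (RingHom.finite_algebraMap.mpr inferInstance)
  have h := ConsProp93.isLocallyConstructible_locus ConsProp93.isCons_universallyInjective ν
  have h2 := h.preimage_of_isOpenEmbedding hW.isoSpec.hom.homeomorph.isOpenEmbedding
  convert h2 using 1
  ext x
  exact (isGeomUnibranch_iff hW x.1 x.2).trans (pointsInj_iff_fiber ν _)

end Groth.Agent.FBase64.Unibranch
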